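import Mathlib
import Groth.Agent.Lib.Helper6.SegDim.SDd
import Groth.Agent.Lib.Helper9.GrMod.Comps

/-!
# Graded modules over graded rings defined over a field: Nakayama and Noether normalisation (helper6)
-/

set_option autoImplicit false
set_option linter.unusedSectionVars false
set_option linter.unusedVariables false
set_option linter.unusedSimpArgs false
set_option linter.style.haveILetI false
set_option maxHeartbeats 400000

universe u

namespace Groth.Agent.Lib.Helper6.SegMod

open DirectSum Groth.Agent.Helper9.GrMod Groth.Agent.Lib.Helper6.SegDim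

variable {k : Type u} [Field k] {R : Type u} [CommRing R] [Algebra k R]
  {𝒜 : ℤ → Submodule k R} [GradedAlgebra 𝒜]
  {M : Type u} [AddCommGroup M] [Module R M] [Module k M] [IsScalarTower k R M]
  {ℳ : ℤ → AddSubgroup M} [DirectSum.Decomposition ℳ] [SetLike.GradedSMul 𝒜 ℳ]

/-- the component of `r • m` for homogeneous `m` -/
theorem compHom_smul_of_mem {j : ℤ} {m : M} (hm : m ∈ ℳ j) (r : R) (e : ℤ) :
    compHom ℳ e (r • m) = (decompose 𝒜 r (e - j) : R) • m := by
  classical
  induction r using DirectSum.Decomposition.inductionOn 𝒜 with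
  | zero => simp
  | @homogeneous d r =>
    rw [compHom_smul 𝒜 ℳ d (r : R) r.2 e m, compHom_of_mem ℳ hm]
    by_cases h : e - d = j
    · rw [if_pos h]
      have : e - j = d := by omega
      rw [this, DirectSum.decompose_coe, DirectSum.of_eq_same]
    · rw [if_neg h, smul_zero]
      have : d ≠ e - j := by omega
      rw [DirectSum.decompose_coe, DirectSum.of_eq_of_ne _ _ _ this.symm]
      simp
  | add r r' h h' =>
    rw [add_smul, map_add, h, h', DirectSum.decompose_add, DirectSum.add_apply,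
      Submodule.coe_add, add_smul]

theorem compHom_self {j : ℤ} {m : M} (hm : m ∈ ℳ j) : compHom ℳ j m = m := by
  rw [compHom_of_mem ℳ hm, if_pos rfl]

include 𝒜 in
/-- scalars from `k` commute with the components -/
theorem compHom_smul_k (c : k) (e : ℤ) (m : M) : compHom ℳ e (c • m) = c • compHom ℳ e m := by
  have h1 : algebraMap k R c ∈ 𝒜 0 := by
    rw [Algebra.algebraMap_eq_smul_one]
    exact Submodule.smul_mem _ _ SetLike.GradedOne.one_mem
  rw [← algebraMap_smul R c m, compHom_smul 𝒜 ℳ 0 _ h1, sub_zero, algebraMap_smul]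

include ℳ in
/-- the annihilator of a graded module is homogeneous -/
theorem annihilator_isHomogeneous : (Module.annihilator R M).IsHomogeneous 𝒜 := by
  intro i r hr
  rw [Module.mem_annihilator] at hr ⊢
  intro m
  induction m using DirectSum.Decomposition.inductionOn ℳ with
  | zero => simp
  | @homogeneous j m =>
    have h := hr (m : M)
    have h2 := compHom_smul_of_mem (𝒜 := 𝒜) m.2 r (i + j)
    rw [h, map_zero, add_sub_cancel_right] at h2
    exact h2.symm
  | add a b ha hb => rw [smul_add, ha, hb, add_zero]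

include 𝒜 in
/-- homogeneous generators -/
theorem exists_homogeneous_generators [Module.Finite R M] :
    ∃ H : Finset M, (∀ h ∈ H, ∃ d, h ∈ ℳ d) ∧ Submodule.span R (H : Set M) = ⊤ := by
  classical
  obtain ⟨s, hs⟩ := Module.finite_def.mp (inferInstance : Module.Finite R M)
  refine ⟨s.biUnion (fun q => (DFinsupp.support (DirectSum.decompose ℳ q)).image
    (fun i => (DirectSum.decompose ℳ q i : M))), ?_, ?_⟩
  · intro h hh
    simp only [Finset.mem_biUnion, Finset.mem_image] at hh
    obtain ⟨q, _, i, _, rfl⟩ := hh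
    exact ⟨i, (DirectSum.decompose ℳ q i).2⟩
  · rw [eq_top_iff, ← hs, Submodule.span_le]
    intro q hq
    rw [SetLike.mem_coe, ← DirectSum.sum_support_decompose ℳ q]
    refine Submodule.sum_mem _ fun i hi => Submodule.subset_span ?_
    rw [Finset.mem_coe]
    simp only [Finset.mem_biUnion, Finset.mem_image]
    exact ⟨q, hq, i, hi, rfl⟩

include 𝒜 in
/-- a finitely generated graded module over a non-negatively graded ring is bounded below -/
theorem exists_lower_bound (hpos : ∀ n : ℤ, n < 0 → 𝒜 n = ⊥) [Module.Finite R M] :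
    ∃ e₀ : ℤ, ∀ e < e₀, ∀ m ∈ ℳ e, m = 0 := by
  classical
  obtain ⟨H, hH, hspan⟩ := exists_homogeneous_generators (𝒜 := 𝒜) (ℳ := ℳ)
  choose! deg hdeg using hH
  refine ⟨-∑ h ∈ H, |deg h|, fun e he m hm => ?_⟩
  have hm' : m ∈ Submodule.span R (H : Set M) := by rw [hspan]; trivial
  obtain ⟨c, -, hc⟩ := Submodule.mem_span_finset.mp hm'
  rw [← compHom_self hm, ← hc, map_sum]
  refine Finset.sum_eq_zero fun h hh => ?_
  rw [compHom_smul_of_mem (𝒜 := 𝒜) (hdeg h hh)]
  have hneg : e - deg h < 0 := by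
    have h1 : |deg h| ≤ ∑ h ∈ H, |deg h| :=
      Finset.single_le_sum (f := fun h => |deg h|) (fun _ _ => abs_nonneg _) hh
    have h2 := neg_abs_le (deg h)
    omega
  have h0 : (decompose 𝒜 (c h) (e - deg h) : R) = 0 :=
    eq_zero_of_mem_neg hpos hneg (decompose 𝒜 (c h) (e - deg h)).2
  rw [h0, zero_smul]

/-- homogeneous representatives of a zero-dimensional quotient -/
theorem exists_homogeneous_span_sup (𝔟 : Ideal R) [Algebra.FiniteType k R]
    (hdim : ringKrullDim (R ⧸ 𝔟) ≤ 0) :
    ∃ H : Finset R, (∀ h ∈ H, ∃ d, h ∈ 𝒜 d) ∧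
      ∀ r : R, ∃ v ∈ Submodule.span k (H : Set R), r - v ∈ 𝔟 := by
  classical
  haveI : Algebra.FiniteType k (R ⧸ 𝔟) :=
    Algebra.FiniteType.of_surjective (Ideal.Quotient.mkₐ k 𝔟) (Ideal.Quotient.mkₐ_surjective k 𝔟)
  haveI : Ring.KrullDimLE 0 (R ⧸ 𝔟) := Ring.krullDimLE_iff.mpr (by exact_mod_cast hdim)
  haveI hfin : Module.Finite k (R ⧸ 𝔟) :=
    (Module.finite_iff_krullDimLE_zero k (R ⧸ 𝔟)).mpr inferInstance
  obtain ⟨s, hs⟩ := Module.finite_def.mp hfin
  let lift : R ⧸ 𝔟 → R := Function.surjInv Ideal.Quotient.mk_surjective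
  have hlift : ∀ q, Ideal.Quotient.mk 𝔟 (lift q) = q := Function.surjInv_eq _
  let H : Finset R := s.biUnion (fun q => (DFinsupp.support (DirectSum.decompose 𝒜 (lift q))).image
    (fun i => (DirectSum.decompose 𝒜 (lift q) i : R)))
  have hHhom : ∀ h ∈ H, ∃ i, h ∈ 𝒜 i := by
    intro h hh
    simp only [H, Finset.mem_biUnion, Finset.mem_image] at hh
    obtain ⟨q, _, i, _, rfl⟩ := hh
    exact ⟨i, (DirectSum.decompose 𝒜 (lift q) i).2⟩
  have hliftH : ∀ q ∈ s, lift q ∈ Submodule.span k (H : Set R) := by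
    intro q hq
    rw [← DirectSum.sum_support_decompose 𝒜 (lift q)]
    refine Submodule.sum_mem _ fun i hi => Submodule.subset_span ?_
    rw [Finset.mem_coe]
    simp only [H, Finset.mem_biUnion, Finset.mem_image]
    exact ⟨q, hq, i, hi, rfl⟩
  refine ⟨H, hHhom, ?_⟩
  have hq : ∀ q ∈ Submodule.span k (s : Set (R ⧸ 𝔟)),
      ∃ v ∈ Submodule.span k (H : Set R), Ideal.Quotient.mk 𝔟 v = q := by
    intro q hq
    induction hq using Submodule.span_induction with
    | mem q hq => exact ⟨lift q, hliftH q hq, hlift q⟩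
    | zero => exact ⟨0, Submodule.zero_mem _, map_zero _⟩
    | add a b _ _ ha hb =>
      obtain ⟨va, hva, ha⟩ := ha
      obtain ⟨vb, hvb, hb⟩ := hb
      exact ⟨va + vb, Submodule.add_mem _ hva hvb, by rw [map_add, ha, hb]⟩
    | smul c a _ ha =>
      obtain ⟨va, hva, ha⟩ := ha
      refine ⟨c • va, Submodule.smul_mem _ c hva, ?_⟩
      rw [← ha]
      exact map_smul (Ideal.Quotient.mkₐ k 𝔟) c va
  intro z
  obtain ⟨v, hv, hvz⟩ := hq (Ideal.Quotient.mk 𝔟 z) (by rw [hs]; trivial)
  exact ⟨v, hv, Ideal.Quotient.eq.mp hvz.symm⟩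

end Groth.Agent.Lib.Helper6.SegMod
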