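import Mathlib
import Groth.Agent.Lib.Helper6.SegMod.SMa

/-!
# Graded Nakayama for modules and finiteness over a polynomial ring of parameters (helper6)
-/

set_option autoImplicit false
set_option linter.unusedSectionVars false
set_option linter.unusedVariables false
set_option linter.unusedSimpArgs false
set_option linter.style.haveILetI false
set_option maxHeartbeats 400000

universe u

namespace Groth.Agent.Lib.Helper6.SegMod

open DirectSum Groth.Agent.Helper9.GrMod Groth.Agent.Lib.Helper6.SegDim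

variable {k : Type u} [Field k] {R : Type u} [CommRing R] [Algebra k R]
  {𝒜 : ℤ → Submodule k R} [GradedAlgebra 𝒜]
  {M : Type u} [AddCommGroup M] [Module R M] [Module k M] [IsScalarTower k R M]
  {ℳ : ℤ → AddSubgroup M} [DirectSum.Decomposition ℳ] [SetLike.GradedSMul 𝒜 ℳ]

/-- the polynomial ring acting on `M` through the elements `x i` -/
@[reducible] noncomputable def polyModule {n : ℕ} (x : Fin n → R) :
    Module (MvPolynomial (Fin n) k) M :=
  Module.compHom M (MvPolynomial.aeval x : MvPolynomial (Fin n) k →ₐ[k] R).toRingHom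

theorem polyModule_smul_def {n : ℕ} (x : Fin n → R) (f : MvPolynomial (Fin n) k) (m : M) :
    (letI := polyModule (k := k) (M := M) x; f • m) = MvPolynomial.aeval x f • m := rfl

include 𝒜 in
/-- every element is, modulo `(x) M`, a `k`-combination of finitely many homogeneous elements -/
theorem exists_homogeneous_span_module [Algebra.FiniteType k R] [Module.Finite R M]
    {n : ℕ} (x : Fin n → R)
    (hdim : ringKrullDim (R ⧸ (Module.annihilator R M ⊔ Ideal.span (Set.range x))) ≤ 0) :
    ∃ H : Finset M, (∀ h ∈ H, ∃ d, h ∈ ℳ d) ∧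
      ∀ m : M, ∃ w ∈ Submodule.span k (H : Set M), ∃ u : Fin n → M, m - w = ∑ i, x i • u i := by
  classical
  obtain ⟨G, hG, hGspan⟩ := exists_homogeneous_generators (𝒜 := 𝒜) (ℳ := ℳ)
  obtain ⟨HR, hHR, hHRspan⟩ := exists_homogeneous_span_sup (𝒜 := 𝒜) _ hdim
  refine ⟨Finset.image₂ (fun (v : R) (g : M) => v • g) HR G, ?_, ?_⟩
  · intro h hh
    obtain ⟨v, hv, g, hg, rfl⟩ := Finset.mem_image₂.mp hh
    obtain ⟨d, hd⟩ := hHR v hv
    obtain ⟨d', hd'⟩ := hG g hg
    exact ⟨d + d', SetLike.GradedSMul.smul_mem hd hd'⟩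
  · set W := Submodule.span k ((Finset.image₂ (fun (v : R) (g : M) => v • g) HR G : Finset M) :
      Set M) with hW
    -- the property is additive
    have hadd : ∀ m m' : M,
        (∃ w ∈ W, ∃ u : Fin n → M, m - w = ∑ i, x i • u i) →
        (∃ w ∈ W, ∃ u : Fin n → M, m' - w = ∑ i, x i • u i) →
        (∃ w ∈ W, ∃ u : Fin n → M, (m + m') - w = ∑ i, x i • u i) := by
      rintro m m' ⟨w, hw, u, hu⟩ ⟨w', hw', u', hu'⟩
      refine ⟨w + w', W.add_mem hw hw', u + u', ?_⟩
      simp only [Pi.add_apply, smul_add, Finset.sum_add_distrib]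
      rw [← hu, ← hu']
      abel
    -- generators
    have hgen : ∀ (r : R) (g : M), g ∈ G →
        ∃ w ∈ W, ∃ u : Fin n → M, r • g - w = ∑ i, x i • u i := by
      intro r g hg
      have hvW : ∀ v ∈ Submodule.span k (HR : Set R), v • g ∈ W := by
        intro v hv
        induction hv using Submodule.span_induction with
        | mem v hv => exact Submodule.subset_span (Finset.mem_coe.mpr
            (Finset.mem_image₂.mpr ⟨v, hv, g, hg, rfl⟩))
        | zero => rw [zero_smul]; exact W.zero_mem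
        | add a b _ _ ha hb => rw [add_smul]; exact W.add_mem ha hb
        | smul c a _ ha => rw [smul_assoc]; exact W.smul_mem c ha
      obtain ⟨v, hv, hrv⟩ := hHRspan r
      obtain ⟨a, ha, j, hj, haj⟩ := Submodule.mem_sup.mp hrv
      obtain ⟨c, hc⟩ := Ideal.mem_span_range_iff_exists_fun.mp hj
      refine ⟨v • g, hvW v hv, fun i => c i • g, ?_⟩
      · rw [← sub_smul, ← haj, add_smul, Module.mem_annihilator.mp ha g, zero_add, ← hc,
          Finset.sum_smul]
        refine Finset.sum_congr rfl fun i _ => ?_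
        rw [mul_smul, smul_comm]
    intro m
    have hm : m ∈ Submodule.span R (G : Set M) := by rw [hGspan]; trivial
    obtain ⟨c, -, hc⟩ := Submodule.mem_span_finset.mp hm
    rw [← hc]
    exact Finset.sum_induction (fun g => c g • g)
      (fun m => ∃ w ∈ W, ∃ u : Fin n → M, m - w = ∑ i, x i • u i) hadd
      ⟨0, W.zero_mem, 0, by simp⟩ (fun g hg => hgen (c g) g hg)

include 𝒜 in
/-- graded Nakayama for modules: `M` is finite over the polynomial ring of the parameters -/
theorem exists_finite_generators_poly (hpos : ∀ n : ℤ, n < 0 → 𝒜 n = ⊥)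
    [Algebra.FiniteType k R] [Module.Finite R M]
    {n : ℕ} (x : Fin n → R) (hx : ∀ i, IsPosHom 𝒜 (x i))
    (hdim : ringKrullDim (R ⧸ (Module.annihilator R M ⊔ Ideal.span (Set.range x))) ≤ 0) :
    ∃ H : Finset M, (∀ h ∈ H, ∃ d, h ∈ ℳ d) ∧
      (letI := polyModule (k := k) (M := M) x
       Submodule.span (MvPolynomial (Fin n) k) (H : Set M) = ⊤) := by
  classical
  obtain ⟨H, hH, hHW⟩ := exists_homogeneous_span_module (𝒜 := 𝒜) (ℳ := ℳ) x hdim
  obtain ⟨e₀, he₀⟩ := exists_lower_bound (𝒜 := 𝒜) (ℳ := ℳ) hpos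
  refine ⟨H, hH, ?_⟩
  letI := polyModule (k := k) (M := M) x
  set N' := Submodule.span (MvPolynomial (Fin n) k) (H : Set M) with hN'
  choose d hd hxd using hx
  have hksmul : ∀ (c : k) (z : M), z ∈ N' → c • z ∈ N' := by
    intro c z hz
    have : c • z = (MvPolynomial.C c : MvPolynomial (Fin n) k) • z := by
      show c • z = MvPolynomial.aeval x (MvPolynomial.C c : MvPolynomial (Fin n) k) • z
      rw [MvPolynomial.aeval_C, algebraMap_smul]
    rw [this]
    exact N'.smul_mem _ hz
  have hxsmul : ∀ (i : Fin n) (z : M), z ∈ N' → x i • z ∈ N' := by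
    intro i z hz
    have : x i • z = (MvPolynomial.X i : MvPolynomial (Fin n) k) • z := by
      show x i • z = MvPolynomial.aeval x (MvPolynomial.X i : MvPolynomial (Fin n) k) • z
      rw [MvPolynomial.aeval_X]
    rw [this]
    exact N'.smul_mem _ hz
  have hWN : ∀ w ∈ Submodule.span k (H : Set M), ∀ e, compHom ℳ e w ∈ N' := by
    intro w hw e
    induction hw using Submodule.span_induction with
    | mem h hh =>
      obtain ⟨j, hj⟩ := hH h hh
      rw [compHom_of_mem ℳ hj]
      split_ifs
      · exact Submodule.subset_span hh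
      · exact N'.zero_mem
    | zero => rw [map_zero]; exact N'.zero_mem
    | add a b _ _ ha hb => rw [map_add]; exact N'.add_mem ha hb
    | smul c a _ ha =>
      rw [compHom_smul_k (𝒜 := 𝒜)]
      exact hksmul c _ ha
  have key : ∀ t : ℕ, ∀ e : ℤ, e < e₀ + t → ∀ m ∈ ℳ e, m ∈ N' := by
    intro t
    induction t with
    | zero =>
      intro e he m hm
      rw [he₀ e (by simpa using he) m hm]
      exact N'.zero_mem
    | succ t ih =>
      intro e he m hm
      by_cases hlt : e < e₀ + t
      · exact ih e hlt m hm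
      obtain ⟨w, hw, u, hu⟩ := hHW m
      have h1 : m = w + ∑ i, x i • u i := by rw [← hu]; abel
      have h2 : m = compHom ℳ e w + ∑ i, x i • compHom ℳ (e - d i) (u i) := by
        conv_lhs => rw [← compHom_self hm, h1, map_add, map_sum]
        congr 1
        refine Finset.sum_congr rfl fun i _ => ?_
        exact compHom_smul 𝒜 ℳ (d i) (x i) (hxd i) e (u i)
      rw [h2]
      refine N'.add_mem (hWN w hw e) (N'.sum_mem fun i _ => hxsmul i _ ?_)
      refine ih (e - d i) ?_ _ (compHom_mem ℳ _ _)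
      have := hd i
      push_cast at he
      omega
  rw [eq_top_iff]
  intro m _
  obtain ⟨-, hm⟩ := compHom_fin ℳ m
  rw [hm]
  refine N'.sum_mem fun j _ => ?_
  exact key ((j - e₀).toNat + 1) j (by push_cast; omega) _ (compHom_mem ℳ j m)

include 𝒜 ℳ in
/-- every element of `R` satisfies, modulo the annihilator of `M`, a monic equation over the
polynomial ring of the parameters -/
theorem exists_monic_eval₂_mem_annihilator (hpos : ∀ n : ℤ, n < 0 → 𝒜 n = ⊥)
    [Algebra.FiniteType k R] [Module.Finite R M]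
    {n : ℕ} (x : Fin n → R) (hx : ∀ i, IsPosHom 𝒜 (x i))
    (hdim : ringKrullDim (R ⧸ (Module.annihilator R M ⊔ Ideal.span (Set.range x))) ≤ 0)
    (a : R) :
    ∃ p : Polynomial (MvPolynomial (Fin n) k), p.Monic ∧
      Polynomial.eval₂ (MvPolynomial.aeval x : MvPolynomial (Fin n) k →ₐ[k] R).toRingHom a p ∈
        Module.annihilator R M := by
  obtain ⟨H, -, hHspan⟩ := exists_finite_generators_poly (𝒜 := 𝒜) (ℳ := ℳ) hpos x hx hdim
  letI := polyModule (k := k) (M := M) x
  letI : Algebra (MvPolynomial (Fin n) k) R :=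
    (MvPolynomial.aeval x : MvPolynomial (Fin n) k →ₐ[k] R).toRingHom.toAlgebra
  haveI : IsScalarTower (MvPolynomial (Fin n) k) R M := ⟨fun f r m => by
    show (MvPolynomial.aeval x f * r) • m = MvPolynomial.aeval x f • (r • m)
    rw [mul_smul]⟩
  haveI : SMulCommClass R (MvPolynomial (Fin n) k) M := ⟨fun r f m => by
    show r • (MvPolynomial.aeval x f • m) = MvPolynomial.aeval x f • (r • m)
    rw [smul_comm]⟩
  haveI : Module.Finite (MvPolynomial (Fin n) k) M := ⟨⟨H, hHspan⟩⟩
  obtain ⟨p, hp, hp0⟩ := LinearMap.exists_monic_and_aeval_eq_zero (MvPolynomial (Fin n) k)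
    (Algebra.lsmul (MvPolynomial (Fin n) k) (MvPolynomial (Fin n) k) M a)
  refine ⟨p, hp, ?_⟩
  rw [Polynomial.aeval_algHom_apply] at hp0
  rw [Module.mem_annihilator]
  intro m
  exact LinearMap.congr_fun hp0 m

theorem ringKrullDim_quotient_sup_pow_le (I : Ideal R) {n : ℕ} (x : Fin n → R) (e : Fin n → ℕ)
    (hdim : ringKrullDim (R ⧸ (I ⊔ Ideal.span (Set.range x))) ≤ 0) :
    ringKrullDim (R ⧸ (I ⊔ Ideal.span (Set.range fun i => x i ^ e i))) ≤ 0 := by
  apply ringKrullDim_quotient_le_of_forall_prime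
  intro Q hQ hle
  have hxQ : I ⊔ Ideal.span (Set.range x) ≤ Q := by
    refine sup_le (le_sup_left.trans hle) ?_
    rw [Ideal.span_le]
    rintro _ ⟨i, rfl⟩
    exact hQ.mem_of_pow_mem (e i) (hle (Ideal.mem_sup_right (Ideal.subset_span ⟨i, rfl⟩)))
  exact (ringKrullDim_le_of_surjective (Ideal.Quotient.factor hxQ)
    (Ideal.Quotient.factor_surjective _)).trans hdim

include 𝒜 ℳ in
/-- the parameters are algebraically independent modulo the annihilator -/
theorem algebraicIndependent_mk_of_supportDim (hpos : ∀ n : ℤ, n < 0 → 𝒜 n = ⊥)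
    [Algebra.FiniteType k R] [Module.Finite R M]
    {n : ℕ} (x : Fin n → R) (hx : ∀ i, IsPosHom 𝒜 (x i))
    (hdim : ringKrullDim (R ⧸ (Module.annihilator R M ⊔ Ideal.span (Set.range x))) ≤ 0)
    (hsupp : Module.supportDim R M = n) :
    AlgebraicIndependent k (fun i => Ideal.Quotient.mk (Module.annihilator R M) (x i)) := by
  set I := Module.annihilator R M with hI
  set xb : Fin n → R ⧸ I := fun i => Ideal.Quotient.mk I (x i) with hxb
  have hdimR : ringKrullDim (R ⧸ I) = n := by
    rw [← hsupp, Module.supportDim_eq_ringKrullDim_quotient_annihilator]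
  let φ : MvPolynomial (Fin n) k →ₐ[k] Algebra.adjoin k (Set.range xb) :=
    (MvPolynomial.aeval xb).codRestrict _ (fun p => by
      rw [Algebra.adjoin_range_eq_range_aeval]; exact ⟨p, rfl⟩)
  have hcomp : (algebraMap (Algebra.adjoin k (Set.range xb)) (R ⧸ I)).comp φ.toRingHom =
      (Ideal.Quotient.mk I).comp
        (MvPolynomial.aeval x : MvPolynomial (Fin n) k →ₐ[k] R).toRingHom := by
    have h : (MvPolynomial.aeval xb : MvPolynomial (Fin n) k →ₐ[k] R ⧸ I) =
        (Ideal.Quotient.mkₐ k I).comp (MvPolynomial.aeval x) := by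
      apply MvPolynomial.algHom_ext
      intro i
      simp [xb]
    ext f
    · simp [φ]
    · simp [φ, xb]
  haveI : Algebra.IsIntegral (Algebra.adjoin k (Set.range xb)) (R ⧸ I) := by
    refine ⟨fun ab => ?_⟩
    obtain ⟨a, rfl⟩ := Ideal.Quotient.mk_surjective ab
    obtain ⟨p, hp, hpa⟩ := exists_monic_eval₂_mem_annihilator (𝒜 := 𝒜) (ℳ := ℳ) hpos x hx hdim a
    refine ⟨p.map φ.toRingHom, hp.map _, ?_⟩
    rw [Polynomial.eval₂_map, hcomp, ← Polynomial.hom_eval₂]
    exact Ideal.Quotient.eq_zero_iff_mem.mpr hpa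
  exact algebraicIndependent_of_isIntegral_of_dim xb hdimR

/-- torsion-freeness with respect to the parameters -/
def IsTorsionFree {n : ℕ} (x : Fin n → R) (m : M) : Prop :=
  ∀ f : MvPolynomial (Fin n) k, MvPolynomial.aeval x f • m = 0 → f = 0

include 𝒜 in
/-- some homogeneous element is torsion-free over the polynomial ring of the parameters -/
theorem exists_torsionFree_homogeneous (hpos : ∀ n : ℤ, n < 0 → 𝒜 n = ⊥)
    [Algebra.FiniteType k R] [Module.Finite R M]
    {n : ℕ} (x : Fin n → R) (hx : ∀ i, IsPosHom 𝒜 (x i))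
    (hdim : ringKrullDim (R ⧸ (Module.annihilator R M ⊔ Ideal.span (Set.range x))) ≤ 0)
    (hsupp : Module.supportDim R M = n) :
    ∃ d : ℤ, ∃ m ∈ ℳ d, IsTorsionFree (k := k) x m := by
  classical
  obtain ⟨H, hH, hHspan⟩ := exists_finite_generators_poly (𝒜 := 𝒜) (ℳ := ℳ) hpos x hx hdim
  have hind := algebraicIndependent_mk_of_supportDim (𝒜 := 𝒜) (ℳ := ℳ) hpos x hx hdim hsupp
  by_contra hcon
  push Not at hcon
  have hf : ∀ h ∈ H, ∃ f : MvPolynomial (Fin n) k, MvPolynomial.aeval x f • h = 0 ∧ f ≠ 0 := by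
    intro h hh
    obtain ⟨d, hd⟩ := hH h hh
    have := hcon d h hd
    unfold IsTorsionFree at this
    push Not at this
    exact this
  choose! f hf0 hfne using hf
  set F := ∏ h ∈ H, f h with hF
  have hFne : F ≠ 0 := Finset.prod_ne_zero_iff.mpr hfne
  have hFh : ∀ h ∈ H, MvPolynomial.aeval x F • h = 0 := by
    intro h hh
    rw [hF, ← Finset.mul_prod_erase H f hh, map_mul, mul_comm, mul_smul, hf0 h hh, smul_zero]
  letI := polyModule (k := k) (M := M) x
  have hkill : ∀ m : M, MvPolynomial.aeval x F • m = 0 := by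
    intro m
    have hm : m ∈ Submodule.span (MvPolynomial (Fin n) k) (H : Set M) := by
      rw [hHspan]; trivial
    induction hm using Submodule.span_induction with
    | mem h hh => exact hFh h hh
    | zero => rw [smul_zero]
    | add a b _ _ ha hb => rw [smul_add, ha, hb, add_zero]
    | smul g a _ ha =>
      show MvPolynomial.aeval x F • (MvPolynomial.aeval x g • a) = 0
      rw [smul_comm, ha, smul_zero]
  have hmem : MvPolynomial.aeval x F ∈ Module.annihilator R M :=
    Module.mem_annihilator.mpr hkill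
  have h0 : MvPolynomial.aeval (fun i => Ideal.Quotient.mk (Module.annihilator R M) (x i)) F = 0 := by
    have h : (MvPolynomial.aeval (fun i => Ideal.Quotient.mk (Module.annihilator R M) (x i)) :
        MvPolynomial (Fin n) k →ₐ[k] R ⧸ Module.annihilator R M) =
        (Ideal.Quotient.mkₐ k (Module.annihilator R M)).comp (MvPolynomial.aeval x) := by
      apply MvPolynomial.algHom_ext
      intro i
      simp
    rw [h]
    exact Ideal.Quotient.eq_zero_iff_mem.mpr hmem
  have hinj : Function.Injective (MvPolynomial.aeval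
      (fun i => Ideal.Quotient.mk (Module.annihilator R M) (x i)) :
        MvPolynomial (Fin n) k →ₐ[k] R ⧸ Module.annihilator R M) := hind
  exact hFne ((injective_iff_map_eq_zero _).mp hinj F h0)

include 𝒜 ℳ in
/-- **graded Noether normalisation for a module**: parameters of a common degree -/
theorem exists_module_noether (hpos : ∀ n : ℤ, n < 0 → 𝒜 n = ⊥)
    (h0 : 𝒜 0 = Submodule.span k {(1 : R)}) [Algebra.FiniteType k R] [Module.Finite R M]
    (r : ℕ) (hr : Module.supportDim R M = r) :
    ∃ D : ℕ, 0 < D ∧ ∀ m : ℕ, 0 < m → ∃ x : Fin r → R, (∀ i, x i ∈ 𝒜 ((m * D : ℕ) : ℤ)) ∧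
      ringKrullDim (R ⧸ (Module.annihilator R M ⊔ Ideal.span (Set.range x))) ≤ 0 := by
  classical
  haveI : IsNoetherianRing R := Algebra.FiniteType.isNoetherianRing k R
  have hbot : ringKrullDim (R ⧸ Module.annihilator R M) ≤ r := by
    rw [← Module.supportDim_eq_ringKrullDim_quotient_annihilator, hr]
  obtain ⟨x, hx, hdim⟩ := exists_hsop_quotient hpos h0 r _ hbot
  choose d hd hxd using hx
  set dn : Fin r → ℕ := fun i => (d i).toNat with hdn
  have hdn_pos : ∀ i, 0 < dn i := fun i => by
    have := hd i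
    simp only [hdn]; omega
  have hdn_eq : ∀ i, ((dn i : ℕ) : ℤ) = d i := fun i => Int.toNat_of_nonneg (hd i).le
  refine ⟨∏ i, dn i, Finset.prod_pos (fun i _ => hdn_pos i), fun m hm => ?_⟩
  set e : Fin r → ℕ := fun i => m * ∏ j ∈ Finset.univ.erase i, dn j with he
  have hdeg : ∀ i, x i ^ e i ∈ 𝒜 ((m * ∏ i, dn i : ℕ) : ℤ) := by
    intro i
    have h1 : x i ^ e i ∈ 𝒜 (e i • d i) := SetLike.pow_mem_graded _ (hxd i)
    have h2 : e i • d i = ((m * ∏ i, dn i : ℕ) : ℤ) := by
      rw [nsmul_eq_mul, ← hdn_eq i, ← Nat.cast_mul, he]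
      congr 1
      rw [mul_assoc, mul_comm (∏ j ∈ Finset.univ.erase i, dn j) (dn i),
        Finset.mul_prod_erase Finset.univ dn (Finset.mem_univ i)]
    rwa [h2] at h1
  exact ⟨fun i => x i ^ e i, hdeg, ringKrullDim_quotient_sup_pow_le _ x e hdim⟩

end Groth.Agent.Lib.Helper6.SegMod
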