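import Mathlib
import Groth.Prelude.Def_GrSeg
import Groth.Agent.Lib.Helper6.SegDim.SDf
import Groth.Agent.Lib.Helper6.SegMod.SMb

/-!
# The action of `R ⊗ S` on `M ⊗ N`, the ideal of annihilators, and descent of integrality
(helper6)
-/

set_option autoImplicit false
set_option linter.unusedSectionVars false
set_option linter.unusedVariables false
set_option linter.unusedSimpArgs false
set_option linter.style.haveILetI false
set_option maxHeartbeats 400000

universe u

namespace Groth.Agent.Lib.Helper6.SegMod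

open scoped TensorProduct
open DirectSum GrSeg Groth.Agent.Lib.Helper6.SegDim

section Act

variable {k : Type u} [Field k] {R S : Type u} [CommRing R] [Algebra k R] [CommRing S]
  [Algebra k S]
  {M N : Type u} [AddCommGroup M] [Module R M] [Module k M] [IsScalarTower k R M]
  [AddCommGroup N] [Module S N] [Module k N] [IsScalarTower k S N]

theorem act_mul (z z' : R ⊗[k] S) (w : M ⊗[k] N) :
    act k R S M N (z * z') w = act k R S M N z (act k R S M N z' w) := by
  induction z using TensorProduct.induction_on with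
  | zero => simp
  | add a b ha hb =>
    rw [add_mul, map_add, LinearMap.add_apply, ha, hb, map_add, LinearMap.add_apply]
  | tmul r s =>
    induction z' using TensorProduct.induction_on with
    | zero => simp
    | add a b ha hb =>
      rw [mul_add, map_add, LinearMap.add_apply, ha, hb, map_add, LinearMap.add_apply, map_add]
    | tmul r' s' =>
      induction w using TensorProduct.induction_on with
      | zero => simp
      | add a b ha hb => simp only [map_add, ha, hb]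
      | tmul m n =>
        rw [Algebra.TensorProduct.tmul_mul_tmul, act_tmul, act_tmul, act_tmul, mul_smul,
          mul_smul]

end Act

section AnnIdeal

variable {k : Type u} [Field k] {R S : Type u} [CommRing R] [Algebra k R] [CommRing S]
  [Algebra k S]
  (𝒜 : ℤ → Submodule k R) [GradedAlgebra 𝒜] (ℬ : ℤ → Submodule k S) [GradedAlgebra ℬ]
  (M N : Type u) [AddCommGroup M] [Module R M] [Module k M] [IsScalarTower k R M]
  [AddCommGroup N] [Module S N] [Module k N] [IsScalarTower k S N]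

/-- homogeneous generators of the ideal of annihilators -/
def annGens : Set (R ⊗[k] S) :=
  {z | ∃ d : ℤ, ∃ i ∈ 𝒜 d, i ∈ Module.annihilator R M ∧ z = i ⊗ₜ[k] (1 : S)} ∪
  {z | ∃ d : ℤ, ∃ j ∈ ℬ d, j ∈ Module.annihilator S N ∧ z = (1 : R) ⊗ₜ[k] j}

/-- the ideal of `R ⊗ S` generated by the annihilators of `M` and `N` -/
def annIdeal : Ideal (R ⊗[k] S) := Ideal.span (annGens 𝒜 ℬ M N)

variable {𝒜 ℬ M N}

theorem act_eq_zero_of_mem_annIdeal {z : R ⊗[k] S} (hz : z ∈ annIdeal 𝒜 ℬ M N) (w : M ⊗[k] N) :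
    act k R S M N z w = 0 := by
  unfold annIdeal Ideal.span at hz
  induction hz using Submodule.closure_induction with
  | zero => simp
  | add a b _ _ ha hb => rw [map_add, LinearMap.add_apply, ha, hb, add_zero]
  | smul_mem b g hg =>
    rw [smul_eq_mul, act_mul]
    have hg0 : act k R S M N g w = 0 := by
      rcases hg with ⟨d, i, _, hi, rfl⟩ | ⟨d, j, _, hj, rfl⟩
      · induction w using TensorProduct.induction_on with
        | zero => simp
        | add a b ha hb => rw [map_add, ha, hb, add_zero]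
        | tmul m n =>
          rw [act_tmul, Module.mem_annihilator.mp hi m, TensorProduct.zero_tmul]
      · induction w using TensorProduct.induction_on with
        | zero => simp
        | add a b ha hb => rw [map_add, ha, hb, add_zero]
        | tmul m n =>
          rw [act_tmul, Module.mem_annihilator.mp hj n, TensorProduct.tmul_zero]
    rw [hg0, map_zero]

theorem biProj_mem_annIdeal (p q : ℤ) {z : R ⊗[k] S} (hz : z ∈ annIdeal 𝒜 ℬ M N) :
    biProj 𝒜 ℬ p q z ∈ annIdeal 𝒜 ℬ M N := by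
  unfold annIdeal Ideal.span at hz
  induction hz using Submodule.closure_induction with
  | zero => rw [map_zero]; exact Ideal.zero_mem _
  | add a b _ _ ha hb => rw [map_add]; exact Ideal.add_mem _ ha hb
  | smul_mem b g hg =>
    rw [smul_eq_mul]
    have hgI : g ∈ annIdeal 𝒜 ℬ M N := Ideal.subset_span hg
    rcases hg with ⟨d, i, hid, hi, rfl⟩ | ⟨d, j, hjd, hj, rfl⟩
    · have h := biProj_mul_tmul (𝒜 := 𝒜) (ℬ := ℬ) hid
        (SetLike.GradedOne.one_mem : (1 : S) ∈ ℬ 0) (p - d) q b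
      rw [sub_add_cancel, add_zero] at h
      rw [h]
      exact Ideal.mul_mem_left _ _ hgI
    · have h := biProj_mul_tmul (𝒜 := 𝒜) (ℬ := ℬ)
        (SetLike.GradedOne.one_mem : (1 : R) ∈ 𝒜 0) hjd p (q - d) b
      rw [sub_add_cancel, add_zero] at h
      rw [h]
      exact Ideal.mul_mem_left _ _ hgI

end AnnIdeal

section AnnMem

variable {k : Type u} [Field k] {R S : Type u} [CommRing R] [Algebra k R] [CommRing S]
  [Algebra k S]
  {𝒜 : ℤ → Submodule k R} [GradedAlgebra 𝒜] {ℬ : ℤ → Submodule k S} [GradedAlgebra ℬ]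
  {M N : Type u} [AddCommGroup M] [Module R M] [Module k M] [IsScalarTower k R M]
  [AddCommGroup N] [Module S N] [Module k N] [IsScalarTower k S N]
  (ℳ : ℤ → AddSubgroup M) [DirectSum.Decomposition ℳ] [SetLike.GradedSMul 𝒜 ℳ]
  (𝒩 : ℤ → AddSubgroup N) [DirectSum.Decomposition 𝒩] [SetLike.GradedSMul ℬ 𝒩]

include ℳ in
theorem tmul_one_mem_annIdeal {i : R} (hi : i ∈ Module.annihilator R M) :
    i ⊗ₜ[k] (1 : S) ∈ annIdeal 𝒜 ℬ M N := by
  classical
  have hhom := annihilator_isHomogeneous (𝒜 := 𝒜) (ℳ := ℳ)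
  rw [← DirectSum.sum_support_decompose 𝒜 i, TensorProduct.sum_tmul]
  exact Ideal.sum_mem _ fun d _ =>
    Ideal.subset_span (Or.inl ⟨d, _, (decompose 𝒜 i d).2, hhom d hi, rfl⟩)

include 𝒩 in
theorem one_tmul_mem_annIdeal {j : S} (hj : j ∈ Module.annihilator S N) :
    (1 : R) ⊗ₜ[k] j ∈ annIdeal 𝒜 ℬ M N := by
  classical
  have hhom := annihilator_isHomogeneous (𝒜 := ℬ) (ℳ := 𝒩)
  rw [← DirectSum.sum_support_decompose ℬ j, TensorProduct.tmul_sum]
  exact Ideal.sum_mem _ fun d _ =>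
    Ideal.subset_span (Or.inr ⟨d, _, (decompose ℬ j d).2, hhom d hj, rfl⟩)

end AnnMem

section Descent

variable {k : Type u} [Field k] {R S : Type u} [CommRing R] [Algebra k R] [CommRing S]
  [Algebra k S]
  {𝒜 : ℤ → Submodule k R} [GradedAlgebra 𝒜] {ℬ : ℤ → Submodule k S} [GradedAlgebra ℬ]

/-- descent of integrality modulo a bihomogeneous ideal along the diagonal projections -/
theorem exists_monic_of_biProj (𝔞 : Ideal (R ⊗[k] S))
    (h𝔞 : ∀ (p q : ℤ) (z : R ⊗[k] S), z ∈ 𝔞 → biProj 𝒜 ℬ p q z ∈ 𝔞)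
    (P C : Subalgebra k (R ⊗[k] S))
    (hCP : ∀ c ∈ C, ∀ p : ℤ, biProj 𝒜 ℬ p p c ∈ P)
    {n : ℤ} {a : R} {b : S} (ha : a ∈ 𝒜 n) (hb : b ∈ ℬ n)
    (f : Polynomial C) (hmonic : f.Monic)
    (hf : Polynomial.eval₂ (algebraMap C (R ⊗[k] S)) (a ⊗ₜ[k] b) f ∈ 𝔞) :
    ∃ g : Polynomial P, g.Monic ∧
      Polynomial.eval₂ (algebraMap P (R ⊗[k] S)) (a ⊗ₜ[k] b) g ∈ 𝔞 := by
  set L := f.natDegree with hL
  set z : R ⊗[k] S := a ⊗ₜ[k] b with hzdef
  have hz : ∀ l : ℕ, z ^ l = (a ^ l) ⊗ₜ[k] (b ^ l) := fun l =>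
    Algebra.TensorProduct.tmul_pow a b l
  let c' : ℕ → P := fun l =>
    ⟨biProj 𝒜 ℬ ((L - l) • n) ((L - l) • n) ((f.coeff l : C) : R ⊗[k] S),
      hCP _ (f.coeff l).2 _⟩
  have hterm : ∀ l ∈ Finset.range (L + 1),
      biProj 𝒜 ℬ (L • n) (L • n) (((f.coeff l : C) : R ⊗[k] S) * z ^ l) =
        ((c' l : P) : R ⊗[k] S) * z ^ l := by
    intro l hl
    have hlL : l ≤ L := Nat.lt_succ_iff.mp (Finset.mem_range.mp hl)
    have e : L • n = (L - l) • n + l • n := by rw [← add_nsmul, Nat.sub_add_cancel hlL]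
    rw [hz, e]
    exact biProj_mul_tmul (SetLike.pow_mem_graded l ha) (SetLike.pow_mem_graded l hb) _ _ _
  have hsum : ∑ l ∈ Finset.range (L + 1), ((c' l : P) : R ⊗[k] S) * z ^ l ∈ 𝔞 := by
    rw [← Finset.sum_congr rfl hterm, ← map_sum]
    apply h𝔞
    have : ∑ l ∈ Finset.range (L + 1), ((f.coeff l : C) : R ⊗[k] S) * z ^ l =
        Polynomial.eval₂ (algebraMap C (R ⊗[k] S)) z f := by
      rw [Polynomial.eval₂_eq_sum_range]
      rfl
    rw [this]
    exact hf
  have hcL : ((c' L : P) : R ⊗[k] S) = 1 := by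
    show biProj 𝒜 ℬ ((L - L) • n) ((L - L) • n) ((f.coeff L : C) : R ⊗[k] S) = 1
    rw [Nat.sub_self, zero_smul, hL, hmonic.coeff_natDegree]
    exact biProj_zero_one
  refine ⟨Polynomial.X ^ L + ∑ l ∈ Finset.range L, Polynomial.C (c' l) * Polynomial.X ^ l,
    ?_, ?_⟩
  · apply Polynomial.monic_X_pow_add
    refine lt_of_le_of_lt (Polynomial.degree_sum_le _ _) ?_
    refine (Finset.sup_lt_iff (WithBot.bot_lt_coe L)).mpr ?_
    intro l hl
    exact lt_of_le_of_lt (Polynomial.degree_C_mul_X_pow_le l _)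
      (WithBot.coe_lt_coe.mpr (Finset.mem_range.mp hl))
  · rw [Polynomial.eval₂_add, Polynomial.eval₂_pow, Polynomial.eval₂_X,
      Polynomial.eval₂_finsetSum]
    simp only [Polynomial.eval₂_mul, Polynomial.eval₂_C, Polynomial.eval₂_pow,
      Polynomial.eval₂_X]
    rw [Finset.sum_range_succ, hcL, one_mul] at hsum
    rw [add_comm]
    exact hsum

end Descent

section Lifts

variable {k B : Type u} [CommRing k] [CommRing B] [Algebra k B] (𝔞 : Ideal B)

/-- the restriction of the quotient map to a subalgebra -/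
noncomputable def mkRestrict (C : Subalgebra k B) : C →+* C.map (Ideal.Quotient.mkₐ k 𝔞) :=
  ((Ideal.Quotient.mk 𝔞).comp C.val.toRingHom).codRestrict (C.map (Ideal.Quotient.mkₐ k 𝔞))
    (fun c => ⟨c, c.2, rfl⟩)

theorem mkRestrict_surjective (C : Subalgebra k B) : Function.Surjective (mkRestrict 𝔞 C) := by
  rintro ⟨_, c, hc, rfl⟩
  exact ⟨⟨c, hc⟩, rfl⟩

theorem exists_monic_of_isIntegral_map (C : Subalgebra k B) (z : B)
    (h : IsIntegral (C.map (Ideal.Quotient.mkₐ k 𝔞)) (Ideal.Quotient.mk 𝔞 z)) :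
    ∃ f : Polynomial C, f.Monic ∧ Polynomial.eval₂ (algebraMap C B) z f ∈ 𝔞 := by
  obtain ⟨fb, hfbm, hfb0⟩ := h
  have hlift : fb ∈ Polynomial.lifts (mkRestrict 𝔞 C) :=
    (Polynomial.mem_lifts _).mpr (Polynomial.map_surjective _ (mkRestrict_surjective 𝔞 C) fb)
  obtain ⟨f, hfmap, -, hfm⟩ := Polynomial.lifts_and_natDegree_eq_and_monic hlift hfbm
  refine ⟨f, hfm, ?_⟩
  rw [← Ideal.Quotient.eq_zero_iff_mem, Polynomial.hom_eval₂]
  have hcomp : (Ideal.Quotient.mk 𝔞).comp (algebraMap C B) =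
      (algebraMap (C.map (Ideal.Quotient.mkₐ k 𝔞)) (B ⧸ 𝔞)).comp (mkRestrict 𝔞 C) := rfl
  rw [hcomp, ← Polynomial.eval₂_map, hfmap]
  exact hfb0

theorem isIntegral_map_of_exists_monic (P : Subalgebra k B) (z : B) (g : Polynomial P)
    (hg : g.Monic) (h : Polynomial.eval₂ (algebraMap P B) z g ∈ 𝔞) :
    IsIntegral (P.map (Ideal.Quotient.mkₐ k 𝔞)) (Ideal.Quotient.mk 𝔞 z) := by
  refine ⟨g.map (mkRestrict 𝔞 P), hg.map _, ?_⟩
  rw [Polynomial.eval₂_map]
  have hcomp : (algebraMap (P.map (Ideal.Quotient.mkₐ k 𝔞)) (B ⧸ 𝔞)).comp (mkRestrict 𝔞 P) =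
      (Ideal.Quotient.mk 𝔞).comp (algebraMap P B) := rfl
  rw [hcomp, ← Polynomial.hom_eval₂]
  exact Ideal.Quotient.eq_zero_iff_mem.mpr h

end Lifts

end Groth.Agent.Lib.Helper6.SegMod
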