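import Mathlib
import Groth.Prelude.Def_CAlg
import Groth.Agent.Lib.Helper6.SegMod.SMb
import Groth.Agent.Lib.Helper8.Depth29
import Groth.Agent.Lib.Helper4.DimFT2

/-!
# Graded Cohen–Macaulay modules are torsion-free over their Noether normalisations (helper6)
-/

set_option autoImplicit false
set_option linter.unusedSectionVars false
set_option linter.unusedVariables false
set_option linter.unusedSimpArgs false
set_option linter.style.haveILetI false
set_option maxHeartbeats 400000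

universe u

namespace Groth.Agent.Lib.Helper6.SegMod

open DirectSum Groth.Agent.Helper9.GrMod Groth.Agent.Lib.Helper6.SegDim

section Irrelevant

variable {k : Type u} [Field k] {R : Type u} [CommRing R] [Algebra k R]
  (𝒜 : ℤ → Submodule k R) [GradedAlgebra 𝒜]

/-- the irrelevant ideal -/
def irrel : Ideal R := Ideal.span {z | IsPosHom 𝒜 z}

variable {𝒜}

theorem decompose_zero_eq_zero_of_mem_irrel (hpos : ∀ n : ℤ, n < 0 → 𝒜 n = ⊥) {z : R}
    (hz : z ∈ irrel 𝒜) : (decompose 𝒜 z 0 : R) = 0 := by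
  unfold irrel Ideal.span at hz
  induction hz using Submodule.closure_induction with
  | zero => simp
  | add a b _ _ ha hb => rw [decompose_add, DirectSum.add_apply, Submodule.coe_add, ha, hb, add_zero]
  | smul_mem b g hg =>
    obtain ⟨d, hd, hgd⟩ := hg
    have h := DirectSum.coe_decompose_mul_add_of_right_mem 𝒜 (i := -d) hgd (a := b)
    rw [neg_add_cancel] at h
    rw [smul_eq_mul, h, eq_zero_of_mem_neg hpos (by omega) (decompose 𝒜 b (-d)).2, zero_mul]

theorem one_notMem_irrel [Nontrivial R] (hpos : ∀ n : ℤ, n < 0 → 𝒜 n = ⊥) :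
    (1 : R) ∉ irrel 𝒜 := by
  intro h
  have h1 := decompose_zero_eq_zero_of_mem_irrel hpos h
  rw [DirectSum.decompose_of_mem_same 𝒜 (SetLike.GradedOne.one_mem : (1 : R) ∈ 𝒜 0)] at h1
  exact one_ne_zero h1

theorem irrel_isMaximal [Nontrivial R] (hpos : ∀ n : ℤ, n < 0 → 𝒜 n = ⊥)
    (h0 : 𝒜 0 = Submodule.span k {(1 : R)}) : (irrel 𝒜).IsMaximal := by
  rw [Ideal.isMaximal_iff]
  refine ⟨one_notMem_irrel hpos, fun J z hJ hz hzJ => ?_⟩
  obtain ⟨c, hc⟩ := exists_sub_algebraMap_mem hpos h0 (irrel 𝒜)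
    (fun w hw => Ideal.subset_span hw) z
  have hc0 : c ≠ 0 := by
    rintro rfl
    rw [map_zero, sub_zero] at hc
    exact hz hc
  have h1 : algebraMap k R c ∈ J := by
    have : algebraMap k R c = z - (z - algebraMap k R c) := by ring
    rw [this]
    exact J.sub_mem hzJ (hJ hc)
  have h2 : (1 : R) = algebraMap k R c⁻¹ * algebraMap k R c := by
    rw [← map_mul, inv_mul_cancel₀ hc0, map_one]
  rw [h2]
  exact J.mul_mem_left _ h1

/-- proper homogeneous ideals are contained in the irrelevant ideal -/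
theorem le_irrel_of_isHomogeneous (hpos : ∀ n : ℤ, n < 0 → 𝒜 n = ⊥)
    (h0 : 𝒜 0 = Submodule.span k {(1 : R)}) {J : Ideal R} (hJ : J.IsHomogeneous 𝒜)
    (hne : J ≠ ⊤) : J ≤ irrel 𝒜 := by
  classical
  intro z hz
  rw [← DirectSum.sum_support_decompose 𝒜 z]
  refine Ideal.sum_mem _ fun d _ => ?_
  have hzd : (decompose 𝒜 z d : R) ∈ J := hJ d hz
  rcases lt_trichotomy d 0 with hd | hd | hd
  · rw [eq_zero_of_mem_neg hpos hd (decompose 𝒜 z d).2]
    exact Ideal.zero_mem _
  · subst hd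
    have hm : (decompose 𝒜 z 0 : R) ∈ Submodule.span k {(1 : R)} := h0 ▸ (decompose 𝒜 z 0).2
    rw [Submodule.mem_span_singleton] at hm
    obtain ⟨c, hc⟩ := hm
    by_cases hc0 : c = 0
    · rw [← hc, hc0, zero_smul]
      exact Ideal.zero_mem _
    · exfalso
      apply hne
      rw [Ideal.eq_top_iff_one]
      have : (1 : R) = algebraMap k R c⁻¹ * (decompose 𝒜 z 0 : R) := by
        rw [← hc, Algebra.smul_def, mul_one, ← map_mul, inv_mul_cancel₀ hc0, map_one]
      rw [this]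
      exact J.mul_mem_left _ hzd
  · exact Ideal.subset_span ⟨d, hd, (decompose 𝒜 z d).2⟩

end Irrelevant

section AssHom

variable {k : Type u} [Field k] {R : Type u} [CommRing R] [Algebra k R]
  {𝒜 : ℤ → Submodule k R} [GradedAlgebra 𝒜]
  {M : Type u} [AddCommGroup M] [Module R M] [Module k M] [IsScalarTower k R M]
  {ℳ : ℤ → AddSubgroup M} [DirectSum.Decomposition ℳ] [SetLike.GradedSMul 𝒜 ℳ]

/-- the annihilator of an element -/
def annEl (z : M) : Ideal R := (⊥ : Submodule R M).colon {z}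

theorem mem_annEl {z : M} {r : R} : r ∈ annEl (R := R) z ↔ r • z = 0 := by
  unfold annEl
  rw [Submodule.mem_colon_singleton, Submodule.mem_bot]

include ℳ in
theorem annEl_isHomogeneous {d : ℤ} {z : M} (hz : z ∈ ℳ d) :
    (annEl (R := R) z).IsHomogeneous 𝒜 := by
  intro i r hr
  rw [mem_annEl] at hr ⊢
  have h2 := compHom_smul_of_mem (𝒜 := 𝒜) hz r (i + d)
  rw [hr, map_zero, add_sub_cancel_right] at h2
  exact h2.symm

include 𝒜 ℳ in
/-- a homogeneous associated prime above the annihilator of a nonzero homogeneous element -/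
theorem exists_homogeneous_associatedPrime [IsNoetherianRing R] {c : ℤ} {m : M} (hm : m ∈ ℳ c)
    (hm0 : m ≠ 0) :
    ∃ 𝔭 : Ideal R, 𝔭 ∈ associatedPrimes R M ∧ 𝔭.IsHomogeneous 𝒜 ∧ annEl (R := R) m ≤ 𝔭 := by
  let Sset : Set (Ideal R) :=
    {J | ∃ d : ℤ, ∃ z ∈ ℳ d, z ≠ 0 ∧ J = annEl (R := R) z ∧ annEl (R := R) m ≤ J}
  have hne : Sset.Nonempty := ⟨annEl m, c, m, hm, hm0, rfl, le_rfl⟩
  obtain ⟨𝔭, ⟨d₀, z₀, hz₀, hz₀ne, rfl, hle⟩, hmax⟩ :=
    (wellFounded_gt : WellFounded ((· > ·) : Ideal R → Ideal R → Prop)).has_min Sset hne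
  have hhom : (annEl (R := R) z₀).IsHomogeneous 𝒜 := annEl_isHomogeneous (ℳ := ℳ) hz₀
  have hnetop : annEl (R := R) z₀ ≠ ⊤ := by
    intro h
    have : (1 : R) ∈ annEl (R := R) z₀ := h ▸ Submodule.mem_top
    rw [mem_annEl, one_smul] at this
    exact hz₀ne this
  have hprime : (annEl (R := R) z₀).IsPrime := by
    refine hhom.isPrime_of_homogeneous_mem_or_mem hnetop ?_
    rintro u v ⟨iu, hu⟩ ⟨iv, hv⟩ huv
    by_contra hcon
    push Not at hcon
    obtain ⟨hu', hv'⟩ := hcon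
    have hvz : v • z₀ ≠ 0 := fun h => hv' (mem_annEl.mpr h)
    have hvzmem : v • z₀ ∈ ℳ (iv + d₀) := SetLike.GradedSMul.smul_mem hv hz₀
    have hle2 : annEl (R := R) z₀ ≤ annEl (R := R) (v • z₀) := by
      intro r hr
      rw [mem_annEl] at hr ⊢
      rw [smul_comm, hr, smul_zero]
    have hmem : annEl (R := R) (v • z₀) ∈ Sset :=
      ⟨iv + d₀, v • z₀, hvzmem, hvz, rfl, hle.trans hle2⟩
    have hnot := hmax _ hmem
    have heq : annEl (R := R) z₀ = annEl (R := R) (v • z₀) :=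
      eq_of_le_of_not_lt hle2 hnot
    apply hu'
    rw [heq, mem_annEl, smul_smul]
    exact mem_annEl.mp huv
  refine ⟨annEl z₀, ?_, hhom, hle⟩
  exact (isAssociatedPrime_iff).mpr ⟨hprime, z₀, rfl⟩

end AssHom

section HomPrime

variable {k : Type u} [Field k] {R : Type u} [CommRing R] [Algebra k R]
  {𝒜 : ℤ → Submodule k R} [GradedAlgebra 𝒜]

/-- a homogeneous prime of maximal dimension above a homogeneous ideal -/
theorem exists_homogeneous_prime_dim_eq {I : Ideal R} (hI : I.IsHomogeneous 𝒜) {n : ℕ}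
    (hn : 1 ≤ n) (hdim : ringKrullDim (R ⧸ I) = n) :
    ∃ 𝔭 : Ideal R, 𝔭.IsPrime ∧ 𝔭.IsHomogeneous 𝒜 ∧ I ≤ 𝔭 ∧ ringKrullDim (R ⧸ 𝔭) = n := by
  have hex : ∃ Q : Ideal R, Q.IsPrime ∧ I ≤ Q ∧ ¬ ringKrullDim (R ⧸ Q) ≤ ((n - 1 : ℕ) : WithBot ℕ∞) := by
    by_contra hcon
    push Not at hcon
    have := ringKrullDim_quotient_le_of_forall_prime I ((n - 1 : ℕ) : WithBot ℕ∞)
      (fun Q hQ hle => hcon Q hQ hle)
    rw [hdim] at this
    have h2 : n ≤ n - 1 := by exact_mod_cast this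
    omega
  obtain ⟨Q, hQ, hIQ, hQdim⟩ := hex
  refine ⟨(Q.homogeneousCore 𝒜).toIdeal, hQ.homogeneousCore, (Q.homogeneousCore 𝒜).isHomogeneous,
    ?_, ?_⟩
  · intro z hz
    classical
    rw [← DirectSum.sum_support_decompose 𝒜 z]
    refine Ideal.sum_mem _ fun d _ => ?_
    exact Ideal.mem_homogeneousCore_of_homogeneous_of_mem ⟨d, (decompose 𝒜 z d).2⟩
      (hIQ (hI d hz))
  · have hcoreI : I ≤ (Q.homogeneousCore 𝒜).toIdeal := by
      intro z hz
      classical
      rw [← DirectSum.sum_support_decompose 𝒜 z]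
      refine Ideal.sum_mem _ fun d _ => ?_
      exact Ideal.mem_homogeneousCore_of_homogeneous_of_mem ⟨d, (decompose 𝒜 z d).2⟩
        (hIQ (hI d hz))
    have h1 : ringKrullDim (R ⧸ (Q.homogeneousCore 𝒜).toIdeal) ≤ n := by
      rw [← hdim]
      exact ringKrullDim_le_of_surjective (Ideal.Quotient.factor hcoreI)
        (Ideal.Quotient.factor_surjective _)
    have h2 : ringKrullDim (R ⧸ Q) ≤ ringKrullDim (R ⧸ (Q.homogeneousCore 𝒜).toIdeal) :=
      ringKrullDim_le_of_surjective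
        (Ideal.Quotient.factor (Ideal.toIdeal_homogeneousCore_le 𝒜 Q))
        (Ideal.Quotient.factor_surjective _)
    refine le_antisymm h1 ?_
    by_contra hlt
    apply hQdim
    refine h2.trans ?_
    -- `v ≤ n`, `¬ n ≤ v` gives `v ≤ n - 1`
    generalize ringKrullDim (R ⧸ (Q.homogeneousCore 𝒜).toIdeal) = v at h1 hlt ⊢
    induction v using WithBot.recBotCoe with
    | bot => exact bot_le
    | coe v =>
      induction v using ENat.recTopCoe with
      | top =>
        exfalso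
        have : ((⊤ : ℕ∞) : WithBot ℕ∞) ≤ ((n : ℕ∞) : WithBot ℕ∞) := h1
        rw [WithBot.coe_le_coe] at this
        exact absurd this (by simp)
      | coe v =>
        have h3 : v ≤ n := by exact_mod_cast h1
        have h4 : ¬ n ≤ v := by
          intro h
          apply hlt
          exact_mod_cast h
        have h5 : v ≤ n - 1 := by omega
        have h6 : ((v : ℕ) : WithBot ℕ∞) ≤ ((n - 1 : ℕ) : WithBot ℕ∞) := Nat.cast_le.mpr h5
        exact h6

end HomPrime

section LocQuot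

open Groth.Agent.Helper8.Depth

variable {R : Type u} [CommRing R]

/-- The height of `s/p` in `R/p` is at most the dimension of `R_s / p R_s`. -/
theorem height_le_ringKrullDim_localization_quotient (p s : Ideal R) [hp : p.IsPrime]
    [hs : s.IsPrime] (hps : p ≤ s) (P : Ideal (Localization.AtPrime s)) [hP : P.IsPrime]
    (hPp : P.comap (algebraMap R (Localization.AtPrime s)) = p) :
    ((s.map (Ideal.Quotient.mk p)).height : WithBot ℕ∞) ≤
      ringKrullDim (Localization.AtPrime s ⧸ P) := by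
  have hsbar : (s.map (Ideal.Quotient.mk p)).IsPrime :=
    Ideal.isPrime_map_quotientMk_of_isPrime hps
  let sbar : PrimeSpectrum (R ⧸ p) := ⟨s.map (Ideal.Quotient.mk p), hsbar⟩
  let Pp : PrimeSpectrum (Localization.AtPrime s) := ⟨P, hP⟩
  have h1 : ringKrullDim (Localization.AtPrime s ⧸ P) = Order.coheight Pp :=
    ringKrullDim_quotient_eq_coheight Pp
  have h2 : ((s.map (Ideal.Quotient.mk p)).height : ℕ∞) = Order.height sbar :=
    PrimeSpectrum.height_eq_orderHeight sbar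
  let φ := IsLocalization.AtPrime.primeSpectrumOrderIso (Localization.AtPrime s) s
  let ψ := p.primeSpectrumQuotientOrderIsoZeroLocus
  have h3 : Order.coheight (φ Pp) = Order.coheight Pp := Order.coheight_orderIso φ Pp
  have h4 : Order.height (ψ sbar) = Order.height sbar := Order.height_orderIso ψ sbar
  rw [h1, h2, ← h3, ← h4, Order.coheight_eq_krullDim_Ici, Order.height_eq_krullDim_Iic]
  have hφ : ((φ Pp : Set.Iic (⟨s, hs⟩ : PrimeSpectrum R)) : PrimeSpectrum R).asIdeal = p := hPp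
  have hψ : ((ψ sbar : PrimeSpectrum.zeroLocus (p : Set R)) : PrimeSpectrum R).asIdeal = s :=
    Ideal.comap_map_mk hps
  let G : Set.Iic (ψ sbar) → Set.Ici (φ Pp) := fun y =>
    ⟨⟨y.1.1, by
      have h7 : y.1 ≤ ψ sbar := y.2
      have h8 : y.1.1.asIdeal ≤
        ((ψ sbar : PrimeSpectrum.zeroLocus (p : Set R)) : PrimeSpectrum R).asIdeal := h7
      rw [hψ] at h8
      exact h8⟩, by
      have h5 : y.1.1 ∈ PrimeSpectrum.zeroLocus (p : Set R) := y.1.2
      rw [PrimeSpectrum.mem_zeroLocus] at h5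
      change ((φ Pp : Set.Iic (⟨s, hs⟩ : PrimeSpectrum R)) : PrimeSpectrum R).asIdeal ≤
        y.1.1.asIdeal
      rw [hφ]
      exact h5⟩
  refine Order.krullDim_le_of_strictMono G ?_
  intro a b hab
  exact hab

end LocQuot

section CM

open Groth.Agent.Helper8.Depth LocCoh

variable {k : Type u} [Field k] {R : Type u} [CommRing R] [Algebra k R]
  {𝒜 : ℤ → Submodule k R} [GradedAlgebra 𝒜]
  {M : Type u} [AddCommGroup M] [Module R M] [Module k M] [IsScalarTower k R M]
  {ℳ : ℤ → AddSubgroup M} [DirectSum.Decomposition ℳ] [SetLike.GradedSMul 𝒜 ℳ]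

include 𝒜 ℳ in
/-- the parameters are algebraically independent modulo any ideal above the annihilator with
quotient of full dimension -/
theorem algebraicIndependent_mk_of_le (hpos : ∀ n : ℤ, n < 0 → 𝒜 n = ⊥)
    [Algebra.FiniteType k R] [Module.Finite R M]
    {n : ℕ} (x : Fin n → R) (hx : ∀ i, IsPosHom 𝒜 (x i))
    (hdim : ringKrullDim (R ⧸ (Module.annihilator R M ⊔ Ideal.span (Set.range x))) ≤ 0)
    (J : Ideal R) (hJ : Module.annihilator R M ≤ J) (hJdim : ringKrullDim (R ⧸ J) = n) :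
    AlgebraicIndependent k (fun i => Ideal.Quotient.mk J (x i)) := by
  set xb : Fin n → R ⧸ J := fun i => Ideal.Quotient.mk J (x i) with hxb
  let φ : MvPolynomial (Fin n) k →ₐ[k] Algebra.adjoin k (Set.range xb) :=
    (MvPolynomial.aeval xb).codRestrict _ (fun p => by
      rw [Algebra.adjoin_range_eq_range_aeval]; exact ⟨p, rfl⟩)
  have hcomp : (algebraMap (Algebra.adjoin k (Set.range xb)) (R ⧸ J)).comp φ.toRingHom =
      (Ideal.Quotient.mk J).comp
        (MvPolynomial.aeval x : MvPolynomial (Fin n) k →ₐ[k] R).toRingHom := by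
    have h : (MvPolynomial.aeval xb : MvPolynomial (Fin n) k →ₐ[k] R ⧸ J) =
        (Ideal.Quotient.mkₐ k J).comp (MvPolynomial.aeval x) := by
      apply MvPolynomial.algHom_ext
      intro i
      simp [xb]
    ext f
    · simp [φ]
    · simp [φ, xb]
  haveI : Algebra.IsIntegral (Algebra.adjoin k (Set.range xb)) (R ⧸ J) := by
    refine ⟨fun ab => ?_⟩
    obtain ⟨a, rfl⟩ := Ideal.Quotient.mk_surjective ab
    obtain ⟨p, hp, hpa⟩ := exists_monic_eval₂_mem_annihilator (𝒜 := 𝒜) (ℳ := ℳ) hpos x hx hdim a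
    refine ⟨p.map φ.toRingHom, hp.map _, ?_⟩
    rw [Polynomial.eval₂_map, hcomp, ← Polynomial.hom_eval₂]
    exact Ideal.Quotient.eq_zero_iff_mem.mpr (hJ hpa)
  exact algebraicIndependent_of_isIntegral_of_dim xb hJdim

include 𝒜 in
/-- **Graded Cohen–Macaulay modules are torsion-free over their Noether normalisations.** -/
theorem isTorsionFree_of_cm (hpos : ∀ n : ℤ, n < 0 → 𝒜 n = ⊥)
    (h0 : 𝒜 0 = Submodule.span k {(1 : R)}) [Algebra.FiniteType k R] [Module.Finite R M]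
    (hMcm : ∀ (q : Ideal R) [q.IsPrime], Subsingleton (LocalizedModule q.primeCompl M) ∨
      LocCoh.IsCohenMacaulayModule (Localization.AtPrime q) (LocalizedModule q.primeCompl M))
    {n : ℕ} (hn : 1 ≤ n) (x : Fin n → R) (hx : ∀ i, IsPosHom 𝒜 (x i))
    (hdim : ringKrullDim (R ⧸ (Module.annihilator R M ⊔ Ideal.span (Set.range x))) ≤ 0)
    (hsupp : Module.supportDim R M = n)
    {c : ℤ} {m : M} (hm : m ∈ ℳ c) (hm0 : m ≠ 0) : IsTorsionFree (k := k) x m := by
  classical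
  haveI : IsNoetherianRing R := Algebra.FiniteType.isNoetherianRing k R
  haveI : Nontrivial M := ⟨⟨m, 0, hm0⟩⟩
  haveI : Nontrivial R := Module.nontrivial R M
  intro f hf
  by_contra hfne
  obtain ⟨𝔭, hass, hhom, hle⟩ := exists_homogeneous_associatedPrime (𝒜 := 𝒜) (ℳ := ℳ) hm hm0
  haveI h𝔭 : 𝔭.IsPrime := hass.isPrime
  have ha𝔭 : MvPolynomial.aeval x f ∈ 𝔭 := hle (mem_annEl.mpr hf)
  have hI𝔭 : Module.annihilator R M ≤ 𝔭 := by
    rw [← Submodule.annihilator_top]; exact IsAssociatedPrime.annihilator_le hass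
  haveI hmax : (irrel 𝒜).IsMaximal := irrel_isMaximal hpos h0
  have h𝔭𝔪 : 𝔭 ≤ irrel 𝒜 := le_irrel_of_isHomogeneous hpos h0 hhom h𝔭.ne_top
  have hdimI : ringKrullDim (R ⧸ Module.annihilator R M) = n := by
    rw [← hsupp, Module.supportDim_eq_ringKrullDim_quotient_annihilator]
  have key : (n : WithBot ℕ∞) ≤ ringKrullDim (R ⧸ 𝔭) := by
    obtain ⟨𝔭₀, h𝔭₀, hhom₀, hI𝔭₀, hdim₀⟩ := exists_homogeneous_prime_dim_eq
      (annihilator_isHomogeneous (𝒜 := 𝒜) (ℳ := ℳ)) hn hdimI
    haveI := h𝔭₀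
    have h𝔭₀𝔪 : 𝔭₀ ≤ irrel 𝒜 := le_irrel_of_isHomogeneous hpos h0 hhom₀ h𝔭₀.ne_top
    haveI hP₀ : (𝔭₀.map (algebraMap R (Localization.AtPrime (irrel 𝒜)))).IsPrime :=
      isPrime_map_localization 𝔭₀ (irrel 𝒜) h𝔭₀𝔪
    have hP₀c : (𝔭₀.map (algebraMap R (Localization.AtPrime (irrel 𝒜)))).comap
        (algebraMap R (Localization.AtPrime (irrel 𝒜))) = 𝔭₀ :=
      comap_map_localization 𝔭₀ (irrel 𝒜) h𝔭₀𝔪
    have hsuppM : (⟨𝔭₀, h𝔭₀⟩ : PrimeSpectrum R) ∈ Module.support R M :=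
      Module.mem_support_iff_of_finite.mpr hI𝔭₀
    have hsuppA : (⟨𝔭₀.map (algebraMap R (Localization.AtPrime (irrel 𝒜))), hP₀⟩ :
        PrimeSpectrum (Localization.AtPrime (irrel 𝒜))) ∈
        Module.support (Localization.AtPrime (irrel 𝒜))
          (LocalizedModule (irrel 𝒜).primeCompl M) := by
      rw [mem_support_localizedModule_iff]
      have : PrimeSpectrum.comap (algebraMap R (Localization.AtPrime (irrel 𝒜)))
          ⟨𝔭₀.map (algebraMap R (Localization.AtPrime (irrel 𝒜))), hP₀⟩ =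
          (⟨𝔭₀, h𝔭₀⟩ : PrimeSpectrum R) := PrimeSpectrum.ext hP₀c
      rw [this]; exact hsuppM
    have hnt : ¬ Subsingleton (LocalizedModule (irrel 𝒜).primeCompl M) := by
      intro hsub
      have := Module.support_eq_empty_iff (R := Localization.AtPrime (irrel 𝒜)).mpr hsub
      rw [this] at hsuppA
      exact hsuppA
    have hcm : LocCoh.IsCohenMacaulayModule (Localization.AtPrime (irrel 𝒜))
        (LocalizedModule (irrel 𝒜).primeCompl M) := (hMcm (irrel 𝒜)).resolve_left hnt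
    have h1 := dim_quotient_le_supportDim_of_mem_support
      (⟨𝔭₀.map (algebraMap R (Localization.AtPrime (irrel 𝒜))), hP₀⟩ :
        PrimeSpectrum (Localization.AtPrime (irrel 𝒜))) hsuppA
    have h2 := height_le_ringKrullDim_localization_quotient 𝔭₀ (irrel 𝒜) h𝔭₀𝔪 _ hP₀c
    have h3 := Groth.Agent.Lib.Helper4.DimFT2.height_map_eq_dim_of_isMaximal k R 𝔭₀ (irrel 𝒜) h𝔭₀𝔪
    have h4 : (n : WithBot ℕ∞) ≤ Module.supportDim (Localization.AtPrime (irrel 𝒜))
        (LocalizedModule (irrel 𝒜).primeCompl M) := by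
      rw [← hdim₀, ← h3]; exact h2.trans h1
    have h5 := depth_localization_le_depth_add_height M 𝔭 (irrel 𝒜) h𝔭𝔪
    rw [(depth_localizedModule_eq_zero_iff 𝔭 M).mpr hass, zero_add] at h5
    have h6 := Groth.Agent.Lib.Helper4.DimFT2.height_map_eq_dim_of_isMaximal k R 𝔭 (irrel 𝒜) h𝔭𝔪
    rw [hcm] at h4
    calc (n : WithBot ℕ∞) ≤ ((LocCoh.depth (Localization.AtPrime (irrel 𝒜))
          (LocalizedModule (irrel 𝒜).primeCompl M) : ℕ∞) : WithBot ℕ∞) := h4
      _ ≤ ((((irrel 𝒜).map (Ideal.Quotient.mk 𝔭)).height : ℕ∞) : WithBot ℕ∞) :=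
          WithBot.coe_le_coe.mpr h5
      _ = ringKrullDim (R ⧸ 𝔭) := h6
  have hle𝔭 : ringKrullDim (R ⧸ 𝔭) ≤ n := by
    rw [← hdimI]
    exact ringKrullDim_le_of_surjective (Ideal.Quotient.factor hI𝔭)
      (Ideal.Quotient.factor_surjective _)
  have hind := algebraicIndependent_mk_of_le (𝒜 := 𝒜) (ℳ := ℳ) hpos x hx hdim 𝔭 hI𝔭
    (le_antisymm hle𝔭 key)
  have h0' : MvPolynomial.aeval (fun i => Ideal.Quotient.mk 𝔭 (x i)) f = 0 := by
    have h : (MvPolynomial.aeval (fun i => Ideal.Quotient.mk 𝔭 (x i)) :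
        MvPolynomial (Fin n) k →ₐ[k] R ⧸ 𝔭) =
        (Ideal.Quotient.mkₐ k 𝔭).comp (MvPolynomial.aeval x) := by
      apply MvPolynomial.algHom_ext
      intro i
      simp
    rw [h]
    exact Ideal.Quotient.eq_zero_iff_mem.mpr ha𝔭
  have hinj : Function.Injective (MvPolynomial.aeval (fun i => Ideal.Quotient.mk 𝔭 (x i)) :
      MvPolynomial (Fin n) k →ₐ[k] R ⧸ 𝔭) := hind
  exact hfne ((injective_iff_map_eq_zero _).mp hinj f h0')

end CM

end Groth.Agent.Lib.Helper6.SegMod
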