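import Mathlib
import Groth.Prelude.Def_GrSeg
import Groth.Agent.Lib.Helper6.SegMod.SMc

/-!
# Integrality of the Segre product modulo the annihilators (helper6)
-/

set_option autoImplicit false
set_option linter.unusedSectionVars false
set_option linter.unusedVariables false
set_option linter.unusedSimpArgs false
set_option linter.style.haveILetI false
set_option maxHeartbeats 400000

universe u

namespace Groth.Agent.Lib.Helper6.SegMod

open scoped TensorProduct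
open DirectSum GrSeg Groth.Agent.Lib.Helper6.SegDim

section

variable {k : Type u} [Field k] {R S : Type u} [CommRing R] [Algebra k R] [CommRing S]
  [Algebra k S]
  {𝒜 : ℤ → Submodule k R} [GradedAlgebra 𝒜] {ℬ : ℤ → Submodule k S} [GradedAlgebra ℬ]
  {M N : Type u} [AddCommGroup M] [Module R M] [Module k M] [IsScalarTower k R M]
  [AddCommGroup N] [Module S N] [Module k N] [IsScalarTower k S N]
  (ℳ : ℤ → AddSubgroup M) [DirectSum.Decomposition ℳ] [SetLike.GradedSMul 𝒜 ℳ]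
  (𝒩 : ℤ → AddSubgroup N) [DirectSum.Decomposition 𝒩] [SetLike.GradedSMul ℬ 𝒩]
  {ι κ : Type} (x : ι → R) (y : κ → S) {D : ℤ}

include ℳ 𝒩 in
/-- bihomogeneous elements of equal degrees are, modulo the annihilators, integral over any
subalgebra containing the `x i ⊗ y j` -/
theorem exists_monic_mem_annIdeal (hD : 0 < D) (hx : ∀ i, x i ∈ 𝒜 D) (hy : ∀ j, y j ∈ ℬ D)
    (hFx : ∀ a : R, ∃ p : Polynomial (MvPolynomial ι k), p.Monic ∧
      Polynomial.eval₂ (MvPolynomial.aeval x : MvPolynomial ι k →ₐ[k] R).toRingHom a p ∈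
        Module.annihilator R M)
    (hFy : ∀ b : S, ∃ p : Polynomial (MvPolynomial κ k), p.Monic ∧
      Polynomial.eval₂ (MvPolynomial.aeval y : MvPolynomial κ k →ₐ[k] S).toRingHom b p ∈
        Module.annihilator S N)
    (P : Subalgebra k (R ⊗[k] S)) (hP : segP (k := k) x y ≤ P)
    {n : ℤ} {a : R} {b : S} (ha : a ∈ 𝒜 n) (hb : b ∈ ℬ n) :
    ∃ g : Polynomial P, g.Monic ∧
      Polynomial.eval₂ (algebraMap P (R ⊗[k] S)) (a ⊗ₜ[k] b) g ∈ annIdeal 𝒜 ℬ M N := by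
  set 𝔞 := annIdeal 𝒜 ℬ M N with h𝔞
  let C : Subalgebra k (R ⊗[k] S) :=
    (Algebra.TensorProduct.map (Algebra.adjoin k (Set.range x)).val
      (Algebra.adjoin k (Set.range y)).val).range
  have hCP : ∀ c ∈ C, ∀ p : ℤ, biProj 𝒜 ℬ p p c ∈ P := by
    rintro _ ⟨ξ, rfl⟩ p
    induction ξ using TensorProduct.induction_on with
    | zero =>
      rw [map_zero, map_zero]; exact Subalgebra.zero_mem _
    | tmul u v =>
      exact hP (biProj_tmul_mem_segP x y hD hx hy u.2 v.2 p)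
    | add ξ ξ' h h' =>
      rw [map_add, map_add]; exact Subalgebra.add_mem _ h h'
  have h1 : IsIntegral (C.map (Ideal.Quotient.mkₐ k 𝔞))
      (Ideal.Quotient.mk 𝔞 (a ⊗ₜ[k] (1 : S))) := by
    obtain ⟨p, hp, hpa⟩ := hFx a
    let θ : R →+* (R ⊗[k] S) ⧸ 𝔞 := (Ideal.Quotient.mk 𝔞).comp
      (Algebra.TensorProduct.includeLeft : R →ₐ[k] R ⊗[k] S).toRingHom
    have hmemC : ∀ f : MvPolynomial ι k,
        (θ.comp (MvPolynomial.aeval x : MvPolynomial ι k →ₐ[k] R).toRingHom) f ∈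
          C.map (Ideal.Quotient.mkₐ k 𝔞) := by
      intro f
      have hmem : MvPolynomial.aeval x f ∈ Algebra.adjoin k (Set.range x) := by
        rw [Algebra.adjoin_range_eq_range_aeval]; exact ⟨f, rfl⟩
      refine ⟨(MvPolynomial.aeval x f) ⊗ₜ[k] (1 : S), ⟨(⟨_, hmem⟩ : Algebra.adjoin k (Set.range x)) ⊗ₜ[k]
        (1 : Algebra.adjoin k (Set.range y)), ?_⟩, rfl⟩
      simp
    let ρ : MvPolynomial ι k →+* C.map (Ideal.Quotient.mkₐ k 𝔞) :=
      (θ.comp (MvPolynomial.aeval x : MvPolynomial ι k →ₐ[k] R).toRingHom).codRestrict _ hmemC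
    refine ⟨p.map ρ, hp.map ρ, ?_⟩
    rw [Polynomial.eval₂_map]
    have hcomp : (algebraMap (C.map (Ideal.Quotient.mkₐ k 𝔞)) ((R ⊗[k] S) ⧸ 𝔞)).comp ρ =
        θ.comp (MvPolynomial.aeval x : MvPolynomial ι k →ₐ[k] R).toRingHom := rfl
    rw [hcomp]
    show Polynomial.eval₂ (θ.comp _) (θ a) p = 0
    rw [← Polynomial.hom_eval₂]
    exact Ideal.Quotient.eq_zero_iff_mem.mpr (tmul_one_mem_annIdeal ℳ hpa)
  have h2 : IsIntegral (C.map (Ideal.Quotient.mkₐ k 𝔞))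
      (Ideal.Quotient.mk 𝔞 ((1 : R) ⊗ₜ[k] b)) := by
    obtain ⟨p, hp, hpb⟩ := hFy b
    let θ : S →+* (R ⊗[k] S) ⧸ 𝔞 := (Ideal.Quotient.mk 𝔞).comp
      (Algebra.TensorProduct.includeRight : S →ₐ[k] R ⊗[k] S).toRingHom
    have hmemC : ∀ f : MvPolynomial κ k,
        (θ.comp (MvPolynomial.aeval y : MvPolynomial κ k →ₐ[k] S).toRingHom) f ∈
          C.map (Ideal.Quotient.mkₐ k 𝔞) := by
      intro f
      have hmem : MvPolynomial.aeval y f ∈ Algebra.adjoin k (Set.range y) := by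
        rw [Algebra.adjoin_range_eq_range_aeval]; exact ⟨f, rfl⟩
      refine ⟨(1 : R) ⊗ₜ[k] (MvPolynomial.aeval y f), ⟨(1 : Algebra.adjoin k (Set.range x)) ⊗ₜ[k]
        (⟨_, hmem⟩ : Algebra.adjoin k (Set.range y)), ?_⟩, rfl⟩
      simp
    let ρ : MvPolynomial κ k →+* C.map (Ideal.Quotient.mkₐ k 𝔞) :=
      (θ.comp (MvPolynomial.aeval y : MvPolynomial κ k →ₐ[k] S).toRingHom).codRestrict _ hmemC
    refine ⟨p.map ρ, hp.map ρ, ?_⟩
    rw [Polynomial.eval₂_map]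
    have hcomp : (algebraMap (C.map (Ideal.Quotient.mkₐ k 𝔞)) ((R ⊗[k] S) ⧸ 𝔞)).comp ρ =
        θ.comp (MvPolynomial.aeval y : MvPolynomial κ k →ₐ[k] S).toRingHom := rfl
    rw [hcomp]
    show Polynomial.eval₂ (θ.comp _) (θ b) p = 0
    rw [← Polynomial.hom_eval₂]
    exact Ideal.Quotient.eq_zero_iff_mem.mpr (one_tmul_mem_annIdeal 𝒩 hpb)
  have h3 : IsIntegral (C.map (Ideal.Quotient.mkₐ k 𝔞))
      (Ideal.Quotient.mk 𝔞 (a ⊗ₜ[k] b)) := by
    have := h1.mul h2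
    rwa [← map_mul, Algebra.TensorProduct.tmul_mul_tmul, mul_one, one_mul] at this
  obtain ⟨f, hfm, hf⟩ := exists_monic_of_isIntegral_map 𝔞 C _ h3
  exact exists_monic_of_biProj 𝔞 (fun p q z hz => biProj_mem_annIdeal p q hz) P C hCP ha hb f hfm hf

end

end Groth.Agent.Lib.Helper6.SegMod
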