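import Mathlib
import Groth.Prelude.Def_GrSeg
import Groth.Agent.Lib.Helper6.SegMod.SMd

/-!
# The dimension of a Segre product of graded modules, given torsion-free elements (helper6)
-/

set_option autoImplicit false
set_option linter.unusedSectionVars false
set_option linter.unusedVariables false
set_option linter.unusedSimpArgs false
set_option linter.style.haveILetI false
set_option maxHeartbeats 400000

universe u

namespace Groth.Agent.Lib.Helper6.SegMod

open scoped TensorProduct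
open DirectSum GrSeg Groth.Agent.Lib.Helper6.SegDim

section Psi

variable {k : Type u} [Field k] {R S : Type u} [CommRing R] [Algebra k R] [CommRing S]
  [Algebra k S] {r' s' : ℕ} (x : Fin (r' + 1) → R) (y : Fin (s' + 1) → S)

/-- the evaluation `X_i ↦ x_i ⊗ 1`, `Y_j ↦ 1 ⊗ y_j` -/
noncomputable def PsiHom : MvPolynomial (Var r' s') k →ₐ[k] R ⊗[k] S :=
  (Algebra.TensorProduct.map (MvPolynomial.aeval x) (MvPolynomial.aeval y)).comp
    (MvPolynomial.tensorEquivSum k (Fin (r' + 1)) (Fin (s' + 1)) k).symm.toAlgHom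

theorem PsiHom_tensorEquivSum
    (h : MvPolynomial (Fin (r' + 1)) k ⊗[k] MvPolynomial (Fin (s' + 1)) k) :
    PsiHom x y (MvPolynomial.tensorEquivSum k (Fin (r' + 1)) (Fin (s' + 1)) k h) =
      Algebra.TensorProduct.map (MvPolynomial.aeval x) (MvPolynomial.aeval y) h := by
  show (Algebra.TensorProduct.map (MvPolynomial.aeval x) (MvPolynomial.aeval y))
    ((MvPolynomial.tensorEquivSum k (Fin (r' + 1)) (Fin (s' + 1)) k).symm
      (MvPolynomial.tensorEquivSum k (Fin (r' + 1)) (Fin (s' + 1)) k h)) = _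
  rw [AlgEquiv.symm_apply_apply]

theorem PsiHom_zz (i : Fin (r' + 1)) (j : Fin (s' + 1)) :
    PsiHom x y (zz k r' s' i j) = x i ⊗ₜ[k] y j := by
  have e : zz k r' s' i j = MvPolynomial.tensorEquivSum k (Fin (r' + 1)) (Fin (s' + 1)) k
      (MvPolynomial.X i ⊗ₜ MvPolynomial.X j) := by
    have h : (MvPolynomial.X i : MvPolynomial (Fin (r' + 1)) k) ⊗ₜ[k]
        (MvPolynomial.X j : MvPolynomial (Fin (s' + 1)) k) =
        (MvPolynomial.X i ⊗ₜ 1) * (1 ⊗ₜ MvPolynomial.X j) := by
      rw [Algebra.TensorProduct.tmul_mul_tmul, mul_one, one_mul]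
    rw [h, map_mul, MvPolynomial.tensorEquivSum_X_tmul_one, MvPolynomial.tensorEquivSum_one_tmul_X,
      zz]
  rw [e, PsiHom_tensorEquivSum, Algebra.TensorProduct.map_tmul, MvPolynomial.aeval_X,
    MvPolynomial.aeval_X]

theorem segP_eq_map_PsiHom : segP (k := k) x y = (segreSub k r' s').map (PsiHom x y) := by
  rw [segreSub, AlgHom.map_adjoin, ← Set.range_comp, segP]
  congr 2
  funext ⟨i, j⟩
  exact (PsiHom_zz x y i j).symm

end Psi

section Ev

variable {k : Type u} [Field k] {R S : Type u} [CommRing R] [Algebra k R] [CommRing S]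
  [Algebra k S]
  {M N : Type u} [AddCommGroup M] [Module R M] [Module k M] [IsScalarTower k R M]
  [AddCommGroup N] [Module S N] [Module k N] [IsScalarTower k S N]

/-- evaluation of polynomials in the parameters at an element of the module -/
noncomputable def evAt {ι : Type} (x : ι → R) (m : M) : MvPolynomial ι k →ₗ[k] M :=
  ((LinearMap.toSpanSingleton R M m).restrictScalars k).comp
    (MvPolynomial.aeval x : MvPolynomial ι k →ₐ[k] R).toLinearMap

theorem evAt_apply {ι : Type} (x : ι → R) (m : M) (f : MvPolynomial ι k) :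
    evAt x m f = MvPolynomial.aeval x f • m := rfl

theorem evAt_injective {n : ℕ} (x : Fin n → R) (m : M) (h : IsTorsionFree (k := k) x m) :
    Function.Injective (evAt (k := k) x m) := by
  rw [injective_iff_map_eq_zero]
  intro f hf
  exact h f hf

variable {r' s' : ℕ} (x : Fin (r' + 1) → R) (y : Fin (s' + 1) → S)

theorem act_PsiHom (g : MvPolynomial (Var r' s') k) (m : M) (m' : N) :
    act k R S M N (PsiHom x y g) (m ⊗ₜ[k] m') =
      TensorProduct.map (evAt x m) (evAt y m')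
        ((MvPolynomial.tensorEquivSum k (Fin (r' + 1)) (Fin (s' + 1)) k).symm g) := by
  obtain ⟨h, rfl⟩ := (MvPolynomial.tensorEquivSum k (Fin (r' + 1)) (Fin (s' + 1)) k).surjective g
  rw [PsiHom_tensorEquivSum, AlgEquiv.symm_apply_apply]
  induction h using TensorProduct.induction_on with
  | zero => simp
  | tmul f f' =>
    rw [Algebra.TensorProduct.map_tmul, act_tmul, TensorProduct.map_tmul]
    rfl
  | add a b ha hb =>
    rw [map_add, map_add, LinearMap.add_apply, ha, hb, map_add]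

end Ev

section Main

variable {k : Type u} [Field k] {R S : Type u} [CommRing R] [Algebra k R] [CommRing S]
  [Algebra k S]
  {𝒜 : ℤ → Submodule k R} [GradedAlgebra 𝒜] {ℬ : ℤ → Submodule k S} [GradedAlgebra ℬ]
  {M N : Type u} [AddCommGroup M] [Module R M] [Module k M] [IsScalarTower k R M]
  [AddCommGroup N] [Module S N] [Module k N] [IsScalarTower k S N]
  (ℳ : ℤ → AddSubgroup M) [DirectSum.Decomposition ℳ] [SetLike.GradedSMul 𝒜 ℳ]
  (𝒩 : ℤ → AddSubgroup N) [DirectSum.Decomposition 𝒩] [SetLike.GradedSMul ℬ 𝒩]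

/-- **The dimension of a Segre product of graded modules**, given parameters of a common degree
and torsion-free homogeneous elements of a common degree. -/
theorem supportDim_segreMod
    (hposR : ∀ n : ℤ, n < 0 → 𝒜 n = ⊥) [Algebra.FiniteType k R]
    (hposS : ∀ n : ℤ, n < 0 → ℬ n = ⊥) [Algebra.FiniteType k S]
    {T : Type u} [CommRing T] [Algebra k T] (𝒯 : ℤ → Submodule k T) [GradedAlgebra 𝒯]
    (ψ : T →ₐ[k] R ⊗[k] S) (hT : GrSeg.IsSegreRing 𝒜 ℬ 𝒯 ψ)
    [Module.Finite R M] [Module.Finite S N]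
    {Pm : Type u} [AddCommGroup Pm] [Module T Pm] [Module k Pm] [IsScalarTower k T Pm]
    [Module.Finite T Pm]
    (𝒬 : ℤ → AddSubgroup Pm) [DirectSum.Decomposition 𝒬]
    (φ : Pm →ₗ[k] M ⊗[k] N) (hP : GrSeg.IsSegreMod ψ ℳ 𝒩 𝒬 φ)
    {r' s' : ℕ} (x : Fin (r' + 1) → R) (y : Fin (s' + 1) → S) {D : ℤ} (hD : 0 < D)
    (hx : ∀ i, x i ∈ 𝒜 D) (hy : ∀ j, y j ∈ ℬ D)
    (hdimx : ringKrullDim (R ⧸ (Module.annihilator R M ⊔ Ideal.span (Set.range x))) ≤ 0)
    (hdimy : ringKrullDim (S ⧸ (Module.annihilator S N ⊔ Ideal.span (Set.range y))) ≤ 0)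
    (hsM : Module.supportDim R M = ((r' + 1 : ℕ) : WithBot ℕ∞))
    (hsN : Module.supportDim S N = ((s' + 1 : ℕ) : WithBot ℕ∞))
    {c : ℤ} {m : M} {m' : N} (hm : m ∈ ℳ c) (hm' : m' ∈ 𝒩 c)
    (htm : IsTorsionFree (k := k) x m) (htm' : IsTorsionFree (k := k) y m') :
    Module.supportDim T Pm = ((r' + s' + 1 : ℕ) : WithBot ℕ∞) := by
  classical
  obtain ⟨hψ, hpiece⟩ := hT
  have hxpos : ∀ i, IsPosHom 𝒜 (x i) := fun i => ⟨D, hD, hx i⟩
  have hypos : ∀ j, IsPosHom ℬ (y j) := fun j => ⟨D, hD, hy j⟩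
  have hFx := exists_monic_eval₂_mem_annihilator (𝒜 := 𝒜) (ℳ := ℳ) hposR x hxpos hdimx
  have hFy := exists_monic_eval₂_mem_annihilator (𝒜 := ℬ) (ℳ := 𝒩) hposS y hypos hdimy
  have hxalg : AlgebraicIndependent k x := by
    have := algebraicIndependent_mk_of_supportDim (𝒜 := 𝒜) (ℳ := ℳ) hposR x hxpos hdimx hsM
    exact AlgebraicIndependent.of_comp (Ideal.Quotient.mkₐ k (Module.annihilator R M)) this
  have hyalg : AlgebraicIndependent k y := by
    have := algebraicIndependent_mk_of_supportDim (𝒜 := ℬ) (ℳ := 𝒩) hposS y hypos hdimy hsN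
    exact AlgebraicIndependent.of_comp (Ideal.Quotient.mkₐ k (Module.annihilator S N)) this
  have htt : ∀ ij : Fin (r' + 1) × Fin (s' + 1), ∃ t : T, ψ t = x ij.1 ⊗ₜ[k] y ij.2 := by
    intro ij
    have hmem : x ij.1 ⊗ₜ[k] y ij.2 ∈ (𝒯 D).map ψ.toLinearMap := by
      rw [hpiece D]
      exact Submodule.subset_span ⟨x ij.1, hx _, y ij.2, hy _, rfl⟩
    obtain ⟨t, -, ht⟩ := hmem
    exact ⟨t, ht⟩
  choose tt htt using htt
  set 𝔓 : Subalgebra k T := Algebra.adjoin k (Set.range tt) with h𝔓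
  have hmapeq : 𝔓.map ψ = segP (k := k) x y := by
    rw [h𝔓, AlgHom.map_adjoin, ← Set.range_comp, segP]
    congr 2
    funext ij
    exact htt ij
  set I := Module.annihilator T Pm with hI
  -- Step A: integrality
  have hA : ∀ t : T, IsIntegral (𝔓.map (Ideal.Quotient.mkₐ k I)) (Ideal.Quotient.mk I t) := by
    intro t
    rw [← DirectSum.sum_support_decompose 𝒯 t, map_sum]
    refine IsIntegral.sum _ (fun n _ => ?_)
    have key : ∀ z ∈ Submodule.span k {z : R ⊗[k] S | ∃ a ∈ 𝒜 n, ∃ b ∈ ℬ n, z = a ⊗ₜ[k] b},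
        ∀ t : T, ψ t = z →
          IsIntegral (𝔓.map (Ideal.Quotient.mkₐ k I)) (Ideal.Quotient.mk I t) := by
      intro z hz
      induction hz using Submodule.span_induction with
      | mem z hz =>
        obtain ⟨a, ha, b, hb, rfl⟩ := hz
        intro t ht
        obtain ⟨g, hgm, hg⟩ := exists_monic_mem_annIdeal ℳ 𝒩 x y hD hx hy hFx hFy (𝔓.map ψ)
          hmapeq.ge ha hb
        let e := 𝔓.equivMapOfInjective ψ hψ
        refine isIntegral_map_of_exists_monic I 𝔓 t (g.map (e.symm : 𝔓.map ψ →+* 𝔓))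
          (hgm.map _) ?_
        rw [Module.mem_annihilator]
        intro u
        apply hP.injective
        rw [map_zero, hP.map_smul]
        have hcomp : (ψ : T →+* R ⊗[k] S).comp ((algebraMap 𝔓 T).comp (e.symm : 𝔓.map ψ →+* 𝔓)) =
            algebraMap (𝔓.map ψ) (R ⊗[k] S) := by
          refine RingHom.ext fun w => ?_
          show ψ ((e.symm w : 𝔓) : T) = (w : R ⊗[k] S)
          rw [← Subalgebra.coe_equivMapOfInjective_apply 𝔓 ψ hψ (e.symm w)]
          exact congrArg Subtype.val (e.apply_symm_apply w)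
        have h1 : (ψ : T →+* R ⊗[k] S) (Polynomial.eval₂ (algebraMap 𝔓 T) t
            (g.map (e.symm : 𝔓.map ψ →+* 𝔓))) =
            Polynomial.eval₂ (algebraMap (𝔓.map ψ) (R ⊗[k] S)) (a ⊗ₜ[k] b) g := by
          rw [Polynomial.eval₂_map, Polynomial.hom_eval₂, hcomp]
          congr 1
        have h2 : ψ (Polynomial.eval₂ (algebraMap 𝔓 T) t (g.map (e.symm : 𝔓.map ψ →+* 𝔓))) =
            Polynomial.eval₂ (algebraMap (𝔓.map ψ) (R ⊗[k] S)) (a ⊗ₜ[k] b) g := h1
        rw [h2]
        exact act_eq_zero_of_mem_annIdeal hg _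
      | zero =>
        intro t ht
        have : t = 0 := hψ (by rw [ht, map_zero])
        rw [this, map_zero]
        exact isIntegral_zero
      | add z z' hz hz' ih ih' =>
        intro t ht
        have hz1 : z ∈ (𝒯 n).map ψ.toLinearMap := by rw [hpiece n]; exact hz
        have hz2 : z' ∈ (𝒯 n).map ψ.toLinearMap := by rw [hpiece n]; exact hz'
        obtain ⟨t₁, -, ht₁⟩ := hz1
        obtain ⟨t₂, -, ht₂⟩ := hz2
        have : t = t₁ + t₂ := hψ (by
          rw [ht, map_add]
          exact congrArg₂ (· + ·) ht₁.symm ht₂.symm)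
        rw [this, map_add]
        exact (ih t₁ ht₁).add (ih' t₂ ht₂)
      | smul c₀ z hz ih =>
        intro t ht
        have hz1 : z ∈ (𝒯 n).map ψ.toLinearMap := by rw [hpiece n]; exact hz
        obtain ⟨t₁, -, ht₁⟩ := hz1
        have : t = c₀ • t₁ := hψ (by
          rw [ht, map_smul]
          exact congrArg (c₀ • ·) ht₁.symm)
        rw [this]
        have h3 : Ideal.Quotient.mk I (c₀ • t₁) = c₀ • Ideal.Quotient.mk I t₁ :=
          map_smul (Ideal.Quotient.mkₐ k I) c₀ t₁
        rw [h3]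
        exact (ih t₁ ht₁).smul c₀
    have hmem : ψ (DirectSum.decompose 𝒯 t n : T) ∈ (𝒯 n).map ψ.toLinearMap :=
      ⟨_, (DirectSum.decompose 𝒯 t n).2, rfl⟩
    rw [hpiece n] at hmem
    exact key _ hmem _ rfl
  -- Step B
  haveI : Algebra.IsIntegral (𝔓.map (Ideal.Quotient.mkₐ k I)) (T ⧸ I) := ⟨fun z => by
    obtain ⟨t, rfl⟩ := Ideal.Quotient.mk_surjective z
    exact hA t⟩
  have hB : ringKrullDim (T ⧸ I) = ringKrullDim (𝔓.map (Ideal.Quotient.mkₐ k I)) :=
    Groth.Agent.Lib.Helper4.DimFT1.ringKrullDim_eq_of_isIntegral_of_injective _ _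
      Subtype.val_injective
  -- Step D: the parameters act faithfully
  have hinj : Function.Injective (mkRestrict I 𝔓) := by
    rw [injective_iff_map_eq_zero]
    intro q hq
    have hqI : (q : T) ∈ I := by
      have := congrArg Subtype.val hq
      exact Ideal.Quotient.eq_zero_iff_mem.mp this
    have hψq : ψ (q : T) ∈ (segreSub k r' s').map (PsiHom x y) := by
      rw [← segP_eq_map_PsiHom, ← hmapeq]
      exact ⟨q, q.2, rfl⟩
    obtain ⟨g, hg, hgq⟩ := hψq
    have hmem : m ⊗ₜ[k] m' ∈ (GrSeg.segrePiece k ℳ 𝒩 c : Set (M ⊗[k] N)) :=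
      Submodule.subset_span ⟨m, hm, m', hm', rfl⟩
    rw [← hP.image_piece c] at hmem
    obtain ⟨u₀, -, hu₀⟩ := hmem
    have h0 : act k R S M N (PsiHom x y g) (m ⊗ₜ[k] m') = 0 := by
      rw [show PsiHom x y g = ψ q from hgq, ← hu₀, ← hP.map_smul,
        Module.mem_annihilator.mp hqI u₀, map_zero]
    rw [act_PsiHom] at h0
    have hginj := TensorProduct.map_injective_of_flat_flat (evAt (k := k) x m) (evAt (k := k) y m')
      (evAt_injective x m htm) (evAt_injective y m' htm')
    have hg0 : g = 0 := by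
      have := hginj (h0.trans (map_zero _).symm)
      exact (EmbeddingLike.map_eq_zero_iff).mp this
    have : ψ (q : T) = 0 := by rw [← hgq, hg0, map_zero]
    exact Subtype.ext (hψ (this.trans (map_zero ψ).symm))
  have hC : ringKrullDim (𝔓.map (Ideal.Quotient.mkₐ k I)) = ringKrullDim 𝔓 :=
    (ringKrullDim_eq_of_ringEquiv (RingEquiv.ofBijective (mkRestrict I 𝔓)
      ⟨hinj, mkRestrict_surjective I 𝔓⟩)).symm
  have hE : ringKrullDim 𝔓 = ringKrullDim (𝔓.map ψ) :=
    ringKrullDim_eq_of_ringEquiv (𝔓.equivMapOfInjective ψ hψ).toRingEquiv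
  rw [Module.supportDim_eq_ringKrullDim_quotient_annihilator, hB, hC, hE, hmapeq]
  exact ringKrullDim_segP x y hxalg hyalg

end Main

end Groth.Agent.Lib.Helper6.SegMod
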