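import Mathlib
import Groth.Prelude.Def_GrSeg
import Groth.Prelude.Def_CAlg
import Groth.Agent.Lib.Helper6.SegMod.SMe
import Groth.Agent.Lib.Helper6.SegMod.SMg

/-!
# Segre products of graded Cohen–Macaulay modules (helper6)
-/

set_option autoImplicit false
set_option linter.unusedSectionVars false
set_option linter.unusedVariables false
set_option linter.unusedSimpArgs false
set_option linter.style.haveILetI false
set_option maxHeartbeats 400000

universe u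

namespace Groth.Agent.Lib.Helper6.SegMod

open scoped TensorProduct
open DirectSum GrSeg Groth.Agent.Lib.Helper6.SegDim

section Final

variable {k : Type u} [Field k] {R S : Type u} [CommRing R] [Algebra k R] [CommRing S]
  [Algebra k S]
  {𝒜 : ℤ → Submodule k R} [GradedAlgebra 𝒜] {ℬ : ℤ → Submodule k S} [GradedAlgebra ℬ]
  {M N : Type u} [AddCommGroup M] [Module R M] [Module k M] [IsScalarTower k R M]
  [AddCommGroup N] [Module S N] [Module k N] [IsScalarTower k S N]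
  (ℳ : ℤ → AddSubgroup M) [DirectSum.Decomposition ℳ] [SetLike.GradedSMul 𝒜 ℳ]
  (𝒩 : ℤ → AddSubgroup N) [DirectSum.Decomposition 𝒩] [SetLike.GradedSMul ℬ 𝒩]

/-- **Dimension of the Segre product of graded Cohen–Macaulay modules.** -/
theorem supportDim_segre_of_cm
    (hposR : ∀ n : ℤ, n < 0 → 𝒜 n = ⊥) (h0R : 𝒜 0 = Submodule.span k {(1 : R)})
    [Algebra.FiniteType k R]
    (hposS : ∀ n : ℤ, n < 0 → ℬ n = ⊥) (h0S : ℬ 0 = Submodule.span k {(1 : S)})
    [Algebra.FiniteType k S]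
    {T : Type u} [CommRing T] [Algebra k T] (𝒯 : ℤ → Submodule k T) [GradedAlgebra 𝒯]
    (ψ : T →ₐ[k] R ⊗[k] S) (hT : GrSeg.IsSegreRing 𝒜 ℬ 𝒯 ψ)
    [Module.Finite R M] [Module.Finite S N]
    {Pm : Type u} [AddCommGroup Pm] [Module T Pm] [Module k Pm] [IsScalarTower k T Pm]
    [Module.Finite T Pm]
    (𝒬 : ℤ → AddSubgroup Pm) [DirectSum.Decomposition 𝒬]
    (φ : Pm →ₗ[k] M ⊗[k] N) (hP : GrSeg.IsSegreMod ψ ℳ 𝒩 𝒬 φ)
    (r s : ℕ) (h1r : 1 ≤ r) (h1s : 1 ≤ s)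
    (hdM : Module.supportDim R M = r) (hdN : Module.supportDim S N = s)
    (hMcm : ∀ (q : Ideal R) [q.IsPrime], Subsingleton (LocalizedModule q.primeCompl M) ∨
      LocCoh.IsCohenMacaulayModule (Localization.AtPrime q) (LocalizedModule q.primeCompl M))
    (hNcm : ∀ (q : Ideal S) [q.IsPrime], Subsingleton (LocalizedModule q.primeCompl N) ∨
      LocCoh.IsCohenMacaulayModule (Localization.AtPrime q) (LocalizedModule q.primeCompl N)) :
    Module.supportDim T Pm = ((r + s - 1 : ℕ) : WithBot ℕ∞) ∨ Subsingleton Pm := by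
  classical
  by_cases hsub : Subsingleton Pm
  · exact Or.inr hsub
  left
  rw [not_subsingleton_iff_nontrivial] at hsub
  obtain ⟨u, hu⟩ := exists_ne (0 : Pm)
  -- a nonzero component
  have hcomp : ∃ c : ℤ, (decompose 𝒬 u c : Pm) ≠ 0 := by
    by_contra hcon
    push Not at hcon
    apply hu
    rw [← DirectSum.sum_support_decompose 𝒬 u]
    exact Finset.sum_eq_zero fun c _ => hcon c
  obtain ⟨c, hc⟩ := hcomp
  have hφc : φ (decompose 𝒬 u c : Pm) ≠ 0 := fun h => hc (hP.injective (h.trans (map_zero φ).symm))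
  have hmem : φ (decompose 𝒬 u c : Pm) ∈ (GrSeg.segrePiece k ℳ 𝒩 c : Set (M ⊗[k] N)) := by
    rw [← hP.image_piece c]
    exact ⟨_, (decompose 𝒬 u c).2, rfl⟩
  have hab : ∃ a ∈ ℳ c, ∃ b ∈ 𝒩 c, a ⊗ₜ[k] b ≠ (0 : M ⊗[k] N) := by
    by_contra hcon
    push Not at hcon
    apply hφc
    have hle : GrSeg.segrePiece k ℳ 𝒩 c ≤ ⊥ := by
      unfold GrSeg.segrePiece
      rw [Submodule.span_le]
      rintro _ ⟨a, ha, b, hb, rfl⟩
      exact (Submodule.mem_bot k).mpr (hcon a ha b hb)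
    exact (Submodule.mem_bot k).mp (hle hmem)
  obtain ⟨a, ha, b, hb, hab⟩ := hab
  have ha0 : a ≠ 0 := by
    rintro rfl
    exact hab (TensorProduct.zero_tmul _ _)
  have hb0 : b ≠ 0 := by
    rintro rfl
    exact hab (TensorProduct.tmul_zero _ _)
  obtain ⟨r', rfl⟩ : ∃ r', r = r' + 1 := ⟨r - 1, by omega⟩
  obtain ⟨s', rfl⟩ : ∃ s', s = s' + 1 := ⟨s - 1, by omega⟩
  obtain ⟨DR, hDR, hR⟩ := exists_module_noether (𝒜 := 𝒜) (ℳ := ℳ) hposR h0R (r' + 1) hdM
  obtain ⟨DS, hDS, hS⟩ := exists_module_noether (𝒜 := ℬ) (ℳ := 𝒩) hposS h0S (s' + 1) hdN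
  obtain ⟨x, hx, hdimx⟩ := hR DS hDS
  obtain ⟨y, hy, hdimy⟩ := hS DR hDR
  have hDpos : (0 : ℤ) < ((DS * DR : ℕ) : ℤ) := by exact_mod_cast Nat.mul_pos hDS hDR
  have hy' : ∀ j, y j ∈ ℬ ((DS * DR : ℕ) : ℤ) := by
    intro j
    have := hy j
    rwa [mul_comm] at this
  have hta := isTorsionFree_of_cm (𝒜 := 𝒜) (ℳ := ℳ) hposR h0R hMcm h1r x
    (fun i => ⟨_, hDpos, hx i⟩) hdimx hdM ha ha0
  have htb := isTorsionFree_of_cm (𝒜 := ℬ) (ℳ := 𝒩) hposS h0S hNcm h1s y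
    (fun j => ⟨_, hDpos, hy' j⟩) hdimy hdN hb hb0
  have h := supportDim_segreMod ℳ 𝒩 hposR hposS 𝒯 ψ hT 𝒬 φ hP x y hDpos hx hy' hdimx hdimy hdM hdN
    ha hb hta htb
  rw [h]
  have e : r' + s' + 1 = r' + 1 + (s' + 1) - 1 := by omega
  rw [e]

end Final

end Groth.Agent.Lib.Helper6.SegMod
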