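import Mathlib
import Groth.Prelude.Def_GrSeg
import Groth.Agent.Lib.Helper6.SegMod.SMe

/-!
# Segre products of modules over standard graded rings (helper6)
-/

set_option autoImplicit false
set_option linter.unusedSectionVars false
set_option linter.unusedVariables false
set_option linter.unusedSimpArgs false
set_option linter.style.haveILetI false
set_option maxHeartbeats 400000

universe u

namespace Groth.Agent.Lib.Helper6.SegMod

open scoped TensorProduct
open DirectSum GrSeg Groth.Agent.Lib.Helper6.SegDim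

section Artinian

variable {R : Type u} [CommRing R] [IsNoetherianRing R] {M : Type u} [AddCommGroup M]
  [Module R M] [Module.Finite R M]

/-- a finite module with zero-dimensional support is Artinian -/
theorem isArtinian_of_supportDim_le_zero (h : Module.supportDim R M ≤ 0) : IsArtinian R M := by
  rw [Module.supportDim_eq_ringKrullDim_quotient_annihilator] at h
  letI := Module.quotientAnnihilator (R := R) (M := M)
  haveI : IsScalarTower R (R ⧸ Module.annihilator R M) M :=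
    (Module.isTorsionBySet_annihilator R M).isScalarTower
  haveI : Module.Finite (R ⧸ Module.annihilator R M) M :=
    Module.Finite.of_restrictScalars_finite R _ M
  haveI : Ring.KrullDimLE 0 (R ⧸ Module.annihilator R M) :=
    Ring.krullDimLE_iff.mpr (by exact_mod_cast h)
  haveI : IsArtinianRing (R ⧸ Module.annihilator R M) :=
    isArtinianRing_iff_krullDimLE_zero.mpr inferInstance
  exact isArtinian_of_surjective_algebraMap (R := R ⧸ Module.annihilator R M)
    Ideal.Quotient.mk_surjective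

end Artinian

section Raise

variable {k : Type u} [Field k] {R : Type u} [CommRing R] [Algebra k R]
  {𝒜 : ℤ → Submodule k R} [GradedAlgebra 𝒜]
  {M : Type u} [AddCommGroup M] [Module R M] [Module k M] [IsScalarTower k R M]
  {ℳ : ℤ → AddSubgroup M} [DirectSum.Decomposition ℳ] [SetLike.GradedSMul 𝒜 ℳ]

/-- the elements of `R` carrying `m` into the torsion submodule -/
def torsionIdeal {n : ℕ} (x : Fin n → R) (m : M) : Ideal R where
  carrier := {r | ∃ f : MvPolynomial (Fin n) k, f ≠ 0 ∧ MvPolynomial.aeval x f • (r • m) = 0}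
  zero_mem' := ⟨1, one_ne_zero, by simp⟩
  add_mem' := by
    rintro a b ⟨f, hf, hfa⟩ ⟨g, hg, hgb⟩
    refine ⟨f * g, mul_ne_zero hf hg, ?_⟩
    have h1 : (MvPolynomial.aeval x f * MvPolynomial.aeval x g) • (a • m) = 0 := by
      rw [mul_comm, mul_smul, hfa, smul_zero]
    have h2 : (MvPolynomial.aeval x f * MvPolynomial.aeval x g) • (b • m) = 0 := by
      rw [mul_smul, hgb, smul_zero]
    rw [map_mul, add_smul, smul_add, h1, h2, add_zero]
  smul_mem' := by
    rintro s r ⟨f, hf, hfr⟩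
    exact ⟨f, hf, by rw [smul_eq_mul, mul_smul, smul_comm, hfr, smul_zero]⟩

theorem notMem_torsionIdeal_iff {n : ℕ} (x : Fin n → R) (m : M) (r : R) :
    r ∉ torsionIdeal (k := k) x m ↔ IsTorsionFree (k := k) x (r • m) := by
  constructor
  · intro h f hf
    by_contra hne
    exact h ⟨f, hne, hf⟩
  · rintro h ⟨f, hne, hf⟩
    exact hne (h f hf)

include 𝒜 in
/-- over a standard graded ring, torsion-free homogeneous elements exist in all higher degrees -/
theorem exists_torsionFree_add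
    (hstd : Ideal.span (⋃ n ∈ Set.Ioi (0 : ℤ), (𝒜 n : Set R)) =
      Ideal.span ((𝒜 1 : Submodule k R) : Set R))
    {n : ℕ} (x : Fin (n + 1) → R) {D : ℤ} (hD : 0 < D) (hx : ∀ i, x i ∈ 𝒜 D)
    {d₀ : ℤ} {m₀ : M} (hm₀ : m₀ ∈ ℳ d₀) (ht : IsTorsionFree (k := k) x m₀) (j : ℕ) :
    ∃ m ∈ ℳ (d₀ + j), IsTorsionFree (k := k) x m := by
  induction j with
  | zero => exact ⟨m₀, by simpa using hm₀, ht⟩
  | succ j ih =>
    obtain ⟨m, hm, htm⟩ := ih
    by_cases hcon : ∀ u ∈ 𝒜 1, u ∈ torsionIdeal (k := k) x m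
    · exfalso
      have hx0 : x 0 ∈ Ideal.span ((𝒜 1 : Submodule k R) : Set R) := by
        rw [← hstd]
        refine Ideal.subset_span ?_
        simp only [Set.mem_iUnion, Set.mem_Ioi, SetLike.mem_coe]
        exact ⟨D, hD, hx 0⟩
      have hle : Ideal.span ((𝒜 1 : Submodule k R) : Set R) ≤ torsionIdeal (k := k) x m :=
        Ideal.span_le.mpr (fun u hu => hcon u hu)
      obtain ⟨f, hf, hf0⟩ := hle hx0
      have h1 : MvPolynomial.aeval x (f * MvPolynomial.X 0) • m = 0 := by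
        rw [map_mul, MvPolynomial.aeval_X, mul_smul]
        exact hf0
      have h2 := htm _ h1
      rcases mul_eq_zero.mp h2 with h | h
      · exact hf h
      · exact MvPolynomial.X_ne_zero (0 : Fin (n + 1)) h
    · push Not at hcon
      obtain ⟨u, hu, hut⟩ := hcon
      refine ⟨u • m, ?_, (notMem_torsionIdeal_iff x m u).mp hut⟩
      have := SetLike.GradedSMul.smul_mem hu hm
      have e : (1 : ℤ) +ᵥ (d₀ + (j : ℤ)) = d₀ + ((j + 1 : ℕ) : ℤ) := by
        rw [vadd_eq_add]; push_cast; ring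
      rwa [e] at this

end Raise

section Final

variable {k : Type u} [Field k] {R S : Type u} [CommRing R] [Algebra k R] [CommRing S]
  [Algebra k S]
  {𝒜 : ℤ → Submodule k R} [GradedAlgebra 𝒜] {ℬ : ℤ → Submodule k S} [GradedAlgebra ℬ]
  {M N : Type u} [AddCommGroup M] [Module R M] [Module k M] [IsScalarTower k R M]
  [AddCommGroup N] [Module S N] [Module k N] [IsScalarTower k S N]
  (ℳ : ℤ → AddSubgroup M) [DirectSum.Decomposition ℳ] [SetLike.GradedSMul 𝒜 ℳ]
  (𝒩 : ℤ → AddSubgroup N) [DirectSum.Decomposition 𝒩] [SetLike.GradedSMul ℬ 𝒩]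

/-- **Dimension of the Segre product of non-Artinian modules over standard graded rings.** -/
theorem supportDim_segre_of_not_isArtinian
    (hposR : ∀ n : ℤ, n < 0 → 𝒜 n = ⊥) (h0R : 𝒜 0 = Submodule.span k {(1 : R)})
    [Algebra.FiniteType k R]
    (hposS : ∀ n : ℤ, n < 0 → ℬ n = ⊥) (h0S : ℬ 0 = Submodule.span k {(1 : S)})
    [Algebra.FiniteType k S]
    {T : Type u} [CommRing T] [Algebra k T] (𝒯 : ℤ → Submodule k T) [GradedAlgebra 𝒯]
    (ψ : T →ₐ[k] R ⊗[k] S) (hT : GrSeg.IsSegreRing 𝒜 ℬ 𝒯 ψ)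
    (hstdR : Ideal.span (⋃ n ∈ Set.Ioi (0 : ℤ), (𝒜 n : Set R)) =
      Ideal.span ((𝒜 1 : Submodule k R) : Set R))
    (hstdS : Ideal.span (⋃ n ∈ Set.Ioi (0 : ℤ), (ℬ n : Set S)) =
      Ideal.span ((ℬ 1 : Submodule k S) : Set S))
    [Module.Finite R M] [Module.Finite S N]
    {Pm : Type u} [AddCommGroup Pm] [Module T Pm] [Module k Pm] [IsScalarTower k T Pm]
    [Module.Finite T Pm]
    (𝒬 : ℤ → AddSubgroup Pm) [DirectSum.Decomposition 𝒬]
    (φ : Pm →ₗ[k] M ⊗[k] N) (hP : GrSeg.IsSegreMod ψ ℳ 𝒩 𝒬 φ)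
    (dM dN : ℕ) (hdM : Module.supportDim R M = dM) (hdN : Module.supportDim S N = dN)
    (hMA : ¬ IsArtinian R M) (hNA : ¬ IsArtinian S N) :
    Module.supportDim T Pm = ((dM + dN - 1 : ℕ) : WithBot ℕ∞) := by
  haveI : IsNoetherianRing R := Algebra.FiniteType.isNoetherianRing k R
  haveI : IsNoetherianRing S := Algebra.FiniteType.isNoetherianRing k S
  have h1M : 1 ≤ dM := by
    by_contra hlt
    have h0 : dM = 0 := by omega
    exact hMA (isArtinian_of_supportDim_le_zero (by rw [hdM, h0]; exact le_refl _))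
  have h1N : 1 ≤ dN := by
    by_contra hlt
    have h0 : dN = 0 := by omega
    exact hNA (isArtinian_of_supportDim_le_zero (by rw [hdN, h0]; exact le_refl _))
  obtain ⟨r', rfl⟩ : ∃ r', dM = r' + 1 := ⟨dM - 1, by omega⟩
  obtain ⟨s', rfl⟩ : ∃ s', dN = s' + 1 := ⟨dN - 1, by omega⟩
  obtain ⟨DR, hDR, hR⟩ := exists_module_noether (𝒜 := 𝒜) (ℳ := ℳ) hposR h0R (r' + 1) hdM
  obtain ⟨DS, hDS, hS⟩ := exists_module_noether (𝒜 := ℬ) (ℳ := 𝒩) hposS h0S (s' + 1) hdN
  obtain ⟨x, hx, hdimx⟩ := hR DS hDS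
  obtain ⟨y, hy, hdimy⟩ := hS DR hDR
  have hDpos : (0 : ℤ) < ((DS * DR : ℕ) : ℤ) := by exact_mod_cast Nat.mul_pos hDS hDR
  have hy' : ∀ j, y j ∈ ℬ ((DS * DR : ℕ) : ℤ) := by
    intro j
    have := hy j
    rwa [mul_comm] at this
  obtain ⟨d₀, m₀, hm₀, htm₀⟩ := exists_torsionFree_homogeneous (𝒜 := 𝒜) (ℳ := ℳ) hposR x
    (fun i => ⟨_, hDpos, hx i⟩) hdimx hdM
  obtain ⟨e₀, n₀, hn₀, htn₀⟩ := exists_torsionFree_homogeneous (𝒜 := ℬ) (ℳ := 𝒩) hposS y
    (fun j => ⟨_, hDpos, hy' j⟩) hdimy hdN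
  obtain ⟨m, hm, htm⟩ := exists_torsionFree_add (𝒜 := 𝒜) (ℳ := ℳ) hstdR x hDpos hx hm₀ htm₀
    (max d₀ e₀ - d₀).toNat
  obtain ⟨n, hn, htn⟩ := exists_torsionFree_add (𝒜 := ℬ) (ℳ := 𝒩) hstdS y hDpos hy' hn₀ htn₀
    (max d₀ e₀ - e₀).toNat
  have e1 : d₀ + ((max d₀ e₀ - d₀).toNat : ℤ) = max d₀ e₀ := by
    rw [Int.toNat_of_nonneg (by have := le_max_left d₀ e₀; omega)]; ring
  have e2 : e₀ + ((max d₀ e₀ - e₀).toNat : ℤ) = max d₀ e₀ := by
    rw [Int.toNat_of_nonneg (by have := le_max_right d₀ e₀; omega)]; ring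
  rw [e1] at hm
  rw [e2] at hn
  have h := supportDim_segreMod ℳ 𝒩 hposR hposS 𝒯 ψ hT 𝒬 φ hP x y hDpos hx hy' hdimx hdimy hdM hdN
    hm hn htm htn
  rw [h]
  have e : r' + s' + 1 = r' + 1 + (s' + 1) - 1 := by omega
  rw [e]

end Final

end Groth.Agent.Lib.Helper6.SegMod
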